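import Cfsg.Agent.Lib.Recog.UsixMult.Plane.Perms

/-!
# No group of automorphisms of a module of order 2^10 is transitive with the given stabiliser

Owner: helper6.
-/

set_option autoImplicit false
set_option maxRecDepth 20000

namespace CfsgLib.Recog.UsixMult.Plane

/-- The sum of two vectors. -/
def xf (v w : Fin 1024) : Fin 1024 := ⟨v.1 ^^^ w.1, Nat.xor_lt_two_pow (n := 10) v.2 w.2⟩

/-- The fixed points of a permutation. -/
def fixF (π : Equiv.Perm (Fin 1024)) : Finset (Fin 1024) := Finset.univ.filter fun v => π v = v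

theorem fixF_conj (π τ : Equiv.Perm (Fin 1024)) : (fixF (π * τ * π⁻¹)).card = (fixF τ).card := by
  have h : fixF (π * τ * π⁻¹) = (fixF τ).map π.toEmbedding := by
    ext v
    rw [Finset.mem_map_equiv, fixF, fixF, Finset.mem_filter, Finset.mem_filter]
    simp only [Finset.mem_univ, true_and, Equiv.Perm.mul_apply]
    exact ⟨fun h => π.injective (by rw [show π.symm v = π⁻¹ v from rfl, h]; exact (π.apply_symm_apply v).symm),
      fun h => by rw [show π⁻¹ v = π.symm v from rfl, h, π.apply_symm_apply]⟩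
  rw [h, Finset.card_map]

variable {H : Type*} [Group H] {f : ℕ → H} (hxor : ∀ v w, f (v ^^^ w) = f v * f w)
  (hinj : ∀ v < 1024, ∀ w < 1024, f v = f w → v = w)

include hxor

theorem f_zero : f 0 = 1 := by
  have := hxor 0 0
  rw [Nat.xor_self] at this
  exact left_eq_mul.1 this

theorem f_inv (v : ℕ) : (f v)⁻¹ = f v := inv_eq_of_mul_eq_one_right (by rw [← hxor, Nat.xor_self, f_zero hxor])

include hinj

theorem perm_xor {π : Equiv.Perm (Fin 1024)} (hπ : π ∈ permGp f) (v w : Fin 1024) :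
    π (xf v w) = xf (π v) (π w) := by
  obtain ⟨n, hn⟩ := hπ
  refine Fin.ext (hinj _ (Fin.is_lt _) _ (Fin.is_lt _) ?_)
  show f (π (xf v w)).1 = f ((π v).1 ^^^ (π w).1)
  rw [← hn, hxor, ← hn, ← hn]
  show n * f (v.1 ^^^ w.1) * n⁻¹ = _
  rw [hxor]
  group

theorem perm_zero {π : Equiv.Perm (Fin 1024)} (hπ : π ∈ permGp f) : π 0 = 0 := by
  obtain ⟨n, hn⟩ := hπ
  refine Fin.ext (hinj _ (Fin.is_lt _) _ (by norm_num) ?_)
  rw [← hn]
  show n * f 0 * n⁻¹ = f 0
  rw [f_zero hxor, mul_one, mul_inv_cancel]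

theorem fix_dvd {z : Equiv.Perm (Fin 1024)} (hz : z ∈ permGp f) : (fixF z).card ∣ 1024 := by
  obtain ⟨n, hn⟩ := hz
  let A : Subgroup H :=
    { carrier := {a | ∃ v : Fin 1024, f v = a}
      one_mem' := ⟨0, f_zero hxor⟩
      mul_mem' := by
        rintro _ _ ⟨v, rfl⟩ ⟨w, rfl⟩
        exact ⟨xf v w, hxor _ _⟩
      inv_mem' := by
        rintro _ ⟨v, rfl⟩
        exact ⟨v, (f_inv hxor _).symm⟩ }
  have hA : Nat.card A = 1024 := by
    rw [← Nat.card_congr (Equiv.ofBijective (fun v : Fin 1024 => (⟨f v, v, rfl⟩ : A))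
      ⟨fun a b h => Fin.ext (hinj _ a.2 _ b.2 (Subtype.ext_iff.1 h)), fun ⟨a, v, e⟩ => ⟨v, Subtype.ext e⟩⟩),
      Nat.card_fin]
  have hmem : ∀ v : Fin 1024, v ∈ fixF z ↔ f v ∈ Subgroup.centralizer ({n} : Set H) := fun v => by
    rw [Subgroup.mem_centralizer_singleton_iff, fixF, Finset.mem_filter]
    refine ⟨fun h => ?_, fun h => ⟨Finset.mem_univ _, Fin.ext (hinj _ (Fin.is_lt _) _ v.2 ?_)⟩⟩
    · have e := hn v
      rw [h.2] at e
      exact (mul_inv_eq_iff_eq_mul.1 e).symm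
    · rw [← hn, ← h, mul_inv_cancel_right]
  rw [← Nat.card_eq_finsetCard]
  have e : Nat.card (fixF z : Finset (Fin 1024)) = Nat.card (A ⊓ Subgroup.centralizer ({n} : Set H) : Subgroup H) :=
    Nat.card_congr (Equiv.ofBijective (fun v : (fixF z : Finset (Fin 1024)) =>
      (⟨f v.1, ⟨v.1, rfl⟩, (hmem v.1).1 v.2⟩ : (A ⊓ Subgroup.centralizer ({n} : Set H) : Subgroup H)))
      ⟨fun a b h => Subtype.ext (Fin.ext (hinj _ a.1.2 _ b.1.2 (Subtype.ext_iff.1 h))),
        fun ⟨a, ⟨v, e⟩, hc⟩ => ⟨⟨v, (hmem v).2 (e.symm ▸ hc)⟩, Subtype.ext e⟩⟩)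
  rw [e]
  exact (Subgroup.card_dvd_of_le inf_le_left).trans (dvd_of_eq hA)

theorem stab_card (htrans : ∀ v : Fin 1024, v ≠ 0 → ∃ π ∈ permGp f, π 1 = v) {d : ℕ}
    (hM : Nat.card (permGp f ⊓ MulAction.stabilizer (Equiv.Perm (Fin 1024)) (1 : Fin 1024) :
      Subgroup (Equiv.Perm (Fin 1024))) = 64 * d) :
    Nat.card (permGp f) = 1023 * (64 * d) ∧ ∀ v : Fin 1024, v ≠ 0 →
      Nat.card (MulAction.stabilizer (permGp f) v) = 64 * d := by
  have horb : ∀ v : Fin 1024, v ≠ 0 → (MulAction.orbit (permGp f) v).ncard = 1023 := by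
    intro v hv
    have e : MulAction.orbit (permGp f) v = {w | w ≠ 0} := by
      ext w
      refine ⟨?_, fun hw => ?_⟩
      · rintro ⟨⟨π, hπ⟩, rfl⟩ h0
        exact hv (π.injective ((h0 : π v = 0).trans (perm_zero hxor hinj hπ).symm))
      · obtain ⟨a, ha, rfl⟩ := htrans v hv
        obtain ⟨b, hb, rfl⟩ := htrans w hw
        exact ⟨⟨b * a⁻¹, mul_mem hb (inv_mem ha)⟩, by
          show (b * a⁻¹) (a 1) = b 1
          simp⟩
    rw [e, show {w : Fin 1024 | w ≠ 0} = ((Finset.univ.erase (0 : Fin 1024) : Finset (Fin 1024)) : Set (Fin 1024)) by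
      ext w; simp, Set.ncard_coe_finset, Finset.card_erase_of_mem (Finset.mem_univ _), Finset.card_univ,
      Fintype.card_fin]
  have hmul : ∀ v : Fin 1024, v ≠ 0 → Nat.card (MulAction.stabilizer (permGp f) v) * 1023 = Nat.card (permGp f) := by
    intro v hv
    rw [← horb v hv, ← MulAction.index_stabilizer, Subgroup.card_mul_index]
  have h1 : Nat.card (MulAction.stabilizer (permGp f) (1 : Fin 1024)) = 64 * d := by
    rw [← hM, ← Subgroup.card_map_of_injective (permGp f).subtype_injective]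
    congr 2
    ext π
    refine ⟨?_, fun h => ⟨⟨π, h.1⟩, h.2, rfl⟩⟩
    rintro ⟨⟨π, hπ⟩, h, rfl⟩
    exact ⟨hπ, h⟩
  have hX := hmul 1 (by decide)
  rw [h1] at hX
  refine ⟨by omega, fun v hv => ?_⟩
  have := hmul v hv
  omega

theorem not_transitive {d : ℕ} (hd : d ∈ [105, 315, 945, 2835])
    (hM : Nat.card (permGp f ⊓ MulAction.stabilizer (Equiv.Perm (Fin 1024)) (1 : Fin 1024) :
      Subgroup (Equiv.Perm (Fin 1024))) = 64 * d)
    (h64 : ∀ τ ∈ permGp f, τ 1 = 1 → τ * τ = 1 → τ ≠ 1 → (fixF τ).card = 64) :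
    ¬ ∀ v : Fin 1024, v ≠ 0 → ∃ π ∈ permGp f, π 1 = v := by
  intro htrans
  obtain ⟨hX, hstab⟩ := stab_card hxor hinj htrans hM
  haveI h11 : Fact (Nat.Prime 11) := ⟨by norm_num⟩
  have hd11 : ¬ 11 ∣ 64 * d ∧ ¬ 11 ∣ 93 * (64 * d) ∧ 64 * d ≠ 0 := by
    have key : ∀ d ∈ [105, 315, 945, 2835], ¬ 11 ∣ 64 * d ∧ ¬ 11 ∣ 93 * (64 * d) ∧ 64 * d ≠ 0 := by decide +kernel
    exact key d hd
  obtain ⟨P⟩ : Nonempty (Sylow 11 (permGp f)) := Sylow.nonempty
  have hP : Nat.card (P : Subgroup (permGp f)) = 11 := by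
    have h93 : 93 * (64 * d) ≠ 0 := by omega
    rw [Sylow.card_eq_multiplicity, hX, show 1023 * (64 * d) = 11 * (93 * (64 * d)) by ring,
      Nat.factorization_mul (by norm_num) h93, Finsupp.add_apply, Nat.Prime.factorization_self h11.out,
      Nat.factorization_eq_zero_of_not_dvd hd11.2.1, pow_one]
  obtain ⟨⟨x, hxP⟩, hx⟩ := exists_prime_orderOf_dvd_card' (G := (P : Subgroup (permGp f))) 11 (by rw [hP])
  rw [← Subgroup.orderOf_coe] at hx
  change orderOf x = 11 at hx
  have hPz : (P : Subgroup (permGp f)) = Subgroup.zpowers x :=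
    (Subgroup.eq_of_le_of_card_ge ((Subgroup.zpowers_le).2 hxP) (by rw [hP, Nat.card_zpowers, hx])).symm
  have hx11 : (x : Equiv.Perm (Fin 1024)) ^ 11 = 1 := by
    rw [← Subgroup.coe_pow, ← hx, pow_orderOf_eq_one]; rfl
  have free : ∀ v : Fin 1024, (x : Equiv.Perm (Fin 1024)) v = v → v = 0 := by
    intro v hv
    by_contra hne
    apply hd11.1
    have h := orderOf_dvd_natCard (⟨x, hv⟩ : MulAction.stabilizer (permGp f) v)
    rw [hstab v hne, ← Subgroup.orderOf_coe] at h
    rwa [← hx]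
  have fix_all : ∀ z : permGp f, z * x = x * z → ∀ v : Fin 1024, v ≠ 0 →
      (z : Equiv.Perm (Fin 1024)) v = v → z = 1 := by
    intro z hzx v hv hzv
    have hcom : ∀ w, (z : Equiv.Perm (Fin 1024)) ((x : Equiv.Perm (Fin 1024)) w) =
        (x : Equiv.Perm (Fin 1024)) ((z : Equiv.Perm (Fin 1024)) w) := fun w => by
      rw [← Equiv.Perm.mul_apply, ← Subgroup.coe_mul, hzx]; rfl
    let σ : Equiv.Perm (fixF z.1 : Finset (Fin 1024)) := (x : Equiv.Perm (Fin 1024)).subtypePerm fun w => by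
      simp only [fixF, Finset.mem_filter, Finset.mem_univ, true_and]
      rw [hcom, (x : Equiv.Perm (Fin 1024)).injective.eq_iff]
    have hσ : σ ^ 11 ^ 1 = 1 := by
      rw [pow_one]
      refine Equiv.ext fun w => Subtype.ext ?_
      simp only [σ, Equiv.Perm.subtypePerm_pow, Equiv.Perm.subtypePerm_apply, hx11]
      rfl
    have h0 : σ.supportᶜ = {⟨0, by
        simp only [fixF, Finset.mem_filter, Finset.mem_univ, true_and]; exact perm_zero hxor hinj z.2⟩} := by
      ext w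
      simp only [Finset.mem_compl, Equiv.Perm.mem_support, not_not, Finset.mem_singleton, σ,
        Equiv.Perm.subtypePerm_apply, Subtype.ext_iff]
      exact ⟨free _, fun e => by rw [e]; exact perm_zero hxor hinj x.2⟩
    have hmod := Equiv.Perm.card_compl_support_modEq hσ
    rw [h0, Finset.card_singleton, Fintype.card_coe] at hmod
    obtain ⟨i, hi, he⟩ := (Nat.dvd_prime_pow Nat.prime_two (m := 10)).1
      ((fix_dvd hxor hinj z.2).trans (dvd_of_eq (by norm_num)))
    have h2 : 1 < (fixF z.1).card := Finset.one_lt_card.2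
      ⟨0, by simp only [fixF, Finset.mem_filter, Finset.mem_univ, true_and]; exact perm_zero hxor hinj z.2,
        v, by simp [fixF, hzv], Ne.symm hv⟩
    rw [he] at hmod h2
    have huniv : fixF z.1 = Finset.univ := by
      refine Finset.card_eq_iff_eq_univ _ |>.1 ?_
      rw [he, Fintype.card_fin]
      interval_cases i <;> first | rfl | (exfalso; revert hmod h2; decide)
    refine Subtype.ext (Equiv.ext fun w => ?_)
    have hw : w ∈ fixF z.1 := huniv ▸ Finset.mem_univ w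
    simpa [fixF] using hw
  have hpow : ∀ z : permGp f, z ∈ Subgroup.normalizer ((P : Subgroup (permGp f)) : Set (permGp f)) →
      ∃ k : ℕ, z * x * z⁻¹ = x ^ k ∧ ∀ j : ℕ, z ^ j * x * (z ^ j)⁻¹ = x ^ k ^ j := by
    intro z hz
    have h := (Subgroup.mem_normalizer_iff.1 hz x).1 hxP
    change z * x * z⁻¹ ∈ (P : Subgroup (permGp f)) at h
    rw [hPz, ← mem_powers_iff_mem_zpowers] at h
    obtain ⟨k, hk⟩ := h
    refine ⟨k, hk.symm, fun j => ?_⟩
    induction j with
    | zero => simp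
    | succ j ih =>
      rw [pow_succ', show z * z ^ j * x * (z * z ^ j)⁻¹ = z * (z ^ j * x * (z ^ j)⁻¹) * z⁻¹ by group, ih,
        ← conj_pow, ← hk, ← pow_mul, pow_succ']
  have hmod11 : ∀ a : ℕ, x ^ a = x → a % 11 = 1 := by
    intro a ha
    have e : x ^ a = x ^ 1 := by rw [pow_one, ha]
    rw [pow_eq_pow_iff_modEq, hx] at e
    exact e
  set N := Subgroup.normalizer ((P : Subgroup (permGp f)) : Set (permGp f)) with hN
  have h7 : ¬ 7 ∣ Nat.card N := by
    intro h
    haveI : Fact (Nat.Prime 7) := ⟨by norm_num⟩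
    obtain ⟨⟨z, hzN⟩, hz⟩ := exists_prime_orderOf_dvd_card' (G := N) 7 h
    rw [← Subgroup.orderOf_coe] at hz
    change orderOf z = 7 at hz
    have hz7 : (z : Equiv.Perm (Fin 1024)) ^ 7 ^ 1 = 1 := by
      rw [pow_one, ← Subgroup.coe_pow, ← hz, pow_orderOf_eq_one]; rfl
    obtain ⟨k, hk, hj⟩ := hpow z hzN
    have e := hj 7
    rw [show z ^ 7 = 1 by rw [← hz, pow_orderOf_eq_one], one_mul, inv_one, mul_one] at e
    have hk7 := hmod11 _ e.symm
    rw [Nat.pow_mod] at hk7
    have key : ∀ r < 11, r ^ 7 % 11 = 1 → r = 1 := by decide +kernel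
    have hkx : x ^ k = x := by
      rw [← pow_mod_orderOf, hx, key _ (Nat.mod_lt _ (by norm_num)) hk7, pow_one]
    have hmod := Equiv.Perm.card_compl_support_modEq hz7
    rw [Fintype.card_fin] at hmod
    obtain ⟨v, hv, hne⟩ : ∃ v ∈ (z : Equiv.Perm (Fin 1024)).supportᶜ, v ≠ 0 := by
      refine Finset.exists_mem_ne ?_ 0
      have h1 : (z : Equiv.Perm (Fin 1024)).supportᶜ.card % 7 = 2 := hmod
      omega
    rw [Finset.mem_compl, Equiv.Perm.mem_support, not_not] at hv
    have hz1 := fix_all z (mul_inv_eq_iff_eq_mul.1 (hk.trans hkx)) v hne hv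
    rw [hz1, orderOf_one] at hz
    norm_num at hz
  have h2N : ¬ 2 ∣ Nat.card N := by
    intro h
    obtain ⟨⟨t, htN⟩, ht⟩ := exists_prime_orderOf_dvd_card' (G := N) 2 h
    rw [← Subgroup.orderOf_coe] at ht
    change orderOf t = 2 at ht
    have ht1 : t ≠ 1 := fun e => by rw [e, orderOf_one] at ht; norm_num at ht
    have htt : t * t = 1 := by rw [← pow_two, ← ht, pow_orderOf_eq_one]
    have ht2 : (t : Equiv.Perm (Fin 1024)) * t = 1 := by rw [← Subgroup.coe_mul, htt]; rfl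
    obtain ⟨v, hv, hne⟩ : ∃ v ∈ (t : Equiv.Perm (Fin 1024)).supportᶜ, v ≠ 0 := by
      refine Finset.exists_mem_ne ?_ 0
      have hmod := Equiv.Perm.card_compl_support_modEq (p := 2) (n := 1) (σ := (t : Equiv.Perm (Fin 1024)))
        (by rw [pow_one, pow_two, ht2])
      rw [Fintype.card_fin] at hmod
      have h1 : (t : Equiv.Perm (Fin 1024)).supportᶜ.card % 2 = 0 := hmod
      have hpos : 0 < (t : Equiv.Perm (Fin 1024)).supportᶜ.card :=
        Finset.card_pos.2 ⟨0, by simpa using perm_zero hxor hinj t.2⟩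
      omega
    rw [Finset.mem_compl, Equiv.Perm.mem_support, not_not] at hv
    obtain ⟨k, hk, hj⟩ := hpow t htN
    have e := hj 2
    rw [pow_two, htt, one_mul, inv_one, mul_one] at e
    have hk2 := hmod11 _ e.symm
    rw [Nat.pow_mod] at hk2
    have key : ∀ r < 11, r ^ 2 % 11 = 1 → r = 1 ∨ r = 10 := by decide +kernel
    rcases key _ (Nat.mod_lt _ (by norm_num)) hk2 with hr | hr
    · have hkx : x ^ k = x := by rw [← pow_mod_orderOf, hx, hr, pow_one]
      exact ht1 (fix_all t (mul_inv_eq_iff_eq_mul.1 (hk.trans hkx)) v hne hv)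
    · obtain ⟨π, hπ, hπv⟩ := htrans v hne
      have h64t : (fixF t.1).card = 64 := by
        rw [← fixF_conj π⁻¹ t.1, inv_inv]
        refine h64 _ (mul_mem (mul_mem (inv_mem hπ) t.2) hπ) ?_ ?_ ?_
        · rw [Equiv.Perm.mul_apply, Equiv.Perm.mul_apply, hπv, hv, ← hπv]; simp
        · calc π⁻¹ * t.1 * π * (π⁻¹ * t.1 * π) = π⁻¹ * (t.1 * t.1) * π := by group
            _ = _ := by rw [ht2, mul_one, inv_mul_cancel]
        · intro h1
          refine ht1 (Subtype.ext ?_)
          calc (t : Equiv.Perm (Fin 1024)) = π * (π⁻¹ * t.1 * π) * π⁻¹ := by group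
            _ = _ := by rw [h1, mul_one, mul_inv_cancel]; rfl
      have hxy : (x : Equiv.Perm (Fin 1024)) * t * (x : Equiv.Perm (Fin 1024))⁻¹ = x.1 * x.1 * t.1 := by
        have e10 : t * x⁻¹ * t⁻¹ = x := by
          rw [show t * x⁻¹ * t⁻¹ = (t * x * t⁻¹)⁻¹ by group, hk, ← pow_mod_orderOf, hx, hr]
          refine inv_eq_of_mul_eq_one_left ?_
          rw [← pow_succ']
          show x ^ 11 = 1
          rw [← hx, pow_orderOf_eq_one]
        have e' := congrArg (fun y : permGp f => x * y * t) e10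
        replace e' : x * (t * x⁻¹ * t⁻¹) * t = x * x * t := e'
        rw [show x * (t * x⁻¹ * t⁻¹) * t = x * t * x⁻¹ by group] at e'
        exact congrArg Subtype.val e'
      have hinter : ∀ w, w ∈ fixF t.1 → w ∈ fixF (x.1 * t.1 * x.1⁻¹) → w = 0 := by
        intro w h1 h2
        simp only [fixF, Finset.mem_filter, Finset.mem_univ, true_and] at h1 h2
        rw [hxy, Equiv.Perm.mul_apply, h1, Equiv.Perm.mul_apply] at h2
        have h12 : ∀ j : ℕ, (x.1 ^ (2 * j)) w = w := fun j => by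
          induction j with
          | zero => simp
          | succ j ih => rw [Nat.mul_succ, pow_add, Equiv.Perm.mul_apply, pow_two, Equiv.Perm.mul_apply, h2, ih]
        refine free w ?_
        have := h12 6
        rwa [show 2 * 6 = 11 + 1 from rfl, pow_succ, hx11, one_mul] at this
      let F := fixF t.1 ×ˢ fixF (x.1 * t.1 * x.1⁻¹)
      have hle : F.card ≤ (Finset.univ : Finset (Fin 1024)).card := by
        refine Finset.card_le_card_of_injOn (fun p => xf p.1 p.2) (fun p _ => Finset.mem_univ _) ?_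
        intro p hp q hq e
        simp only [F, Finset.coe_product, Set.mem_prod, Finset.mem_coe] at hp hq
        have hmem : ∀ {z : Equiv.Perm (Fin 1024)}, z ∈ permGp f → ∀ a b, a ∈ fixF z → b ∈ fixF z → xf a b ∈ fixF z := by
          intro z hz a b ha hb
          simp only [fixF, Finset.mem_filter, Finset.mem_univ, true_and] at ha hb ⊢
          rw [perm_xor hxor hinj hz, ha, hb]
        have e1 : p.1.1 ^^^ p.2.1 = q.1.1 ^^^ q.2.1 := congrArg Fin.val e
        have e2 : xf p.1 q.1 = xf p.2 q.2 := Fin.ext (by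
          show p.1.1 ^^^ q.1.1 = p.2.1 ^^^ q.2.1
          calc p.1.1 ^^^ q.1.1 = (p.1.1 ^^^ p.2.1) ^^^ (p.2.1 ^^^ q.1.1) := by
                rw [Nat.xor_assoc, ← Nat.xor_assoc p.2.1, Nat.xor_self, Nat.zero_xor]
            _ = _ := by rw [e1]; simp [Nat.xor_assoc, Nat.xor_comm, Nat.xor_left_comm])
        have h0 := hinter _ (hmem t.2 _ _ hp.1 hq.1)
          (e2 ▸ hmem (mul_mem (mul_mem x.2 t.2) (inv_mem x.2)) _ _ hp.2 hq.2)
        have a1 : p.1 = q.1 := Fin.ext (Nat.xor_eq_zero_iff.1 (congrArg Fin.val h0))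
        have a2 : p.2 = q.2 := Fin.ext (Nat.xor_eq_zero_iff.1 (congrArg Fin.val (e2 ▸ h0)))
        exact Prod.ext a1 a2
      rw [Finset.card_product, fixF_conj, h64t, Finset.card_univ, Fintype.card_fin] at hle
      omega
  have h11N : 11 ∣ Nat.card N := by
    rw [← hP]; exact Subgroup.card_dvd_of_le Subgroup.le_normalizer
  obtain ⟨m, hm⟩ := h11N
  have hidx : N.index % 11 = 1 := by
    have := card_sylow_modEq_one 11 (permGp f)
    rwa [Sylow.card_eq_index_normalizer P] at this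
  have hmul := N.card_mul_index
  rw [hm, hX] at hmul
  have hmi : m * N.index = 93 * (64 * d) := by
    have : 11 * (m * N.index) = 11 * (93 * (64 * d)) := by rw [← mul_assoc, hmul]; ring
    omega
  have hmm : m % 11 = 93 * (64 * d) % 11 := by
    rw [← hmi, Nat.mul_mod, hidx, mul_one, Nat.mod_mod]
  have hdiv : m ∣ 243 * 155 := by
    have hm2 : ¬ 2 ∣ m := fun h => h2N (hm ▸ Dvd.dvd.mul_left h 11)
    have hm7 : ¬ 7 ∣ m := fun h => h7 (hm ▸ Dvd.dvd.mul_left h 11)
    have c1 : Nat.Coprime m (2 ^ 6) := Nat.Coprime.pow_right 6 ((Nat.Prime.coprime_iff_not_dvd Nat.prime_two).2 hm2).symm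
    have c7 : Nat.Coprime m 7 := ((Nat.Prime.coprime_iff_not_dvd (by norm_num)).2 hm7).symm
    obtain ⟨e, he, he'⟩ : ∃ e, 93 * (64 * d) = (2 ^ 6) * (7 * e) ∧ e ∣ 243 * 155 := by
      have key : ∀ d ∈ [105, 315, 945, 2835], 93 * (64 * d) = (2 ^ 6) * (7 * (93 * (d / 7))) ∧
          93 * (d / 7) ∣ 243 * 155 := by decide +kernel
      exact ⟨_, (key d hd).1, (key d hd).2⟩
    have h1 : m ∣ (2 ^ 6) * (7 * e) := he ▸ Dvd.intro _ hmi
    exact (c7.dvd_of_dvd_mul_left (c1.dvd_of_dvd_mul_left h1)).trans he'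
  obtain ⟨a, b, ha, hb, rfl⟩ := exists_dvd_and_dvd_of_dvd_mul hdiv
  have hr : 93 * (64 * d) % 11 ∈ [6, 7, 10, 8] := by
    have key : ∀ d ∈ [105, 315, 945, 2835], 93 * (64 * d) % 11 ∈ [6, 7, 10, 8] := by decide +kernel
    exact key d hd
  rw [← hmm] at hr
  have key : (List.range 244).all (fun a => !Nat.beq (243 % a) 0 || (List.range 156).all fun b =>
      !Nat.beq (155 % b) 0 || !([6, 7, 10, 8].contains (a * b % 11))) = true := by decide +kernel
  have k1 := List.all_eq_true.1 key a (List.mem_range.2 (Nat.lt_succ_of_le (Nat.le_of_dvd (by norm_num) ha)))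
  rw [Nat.mod_eq_zero_of_dvd ha] at k1
  simp only [Nat.beq_refl, Bool.not_true, Bool.false_or] at k1
  have k2 := List.all_eq_true.1 k1 b (List.mem_range.2 (Nat.lt_succ_of_le (Nat.le_of_dvd (by norm_num) hb)))
  rw [Nat.mod_eq_zero_of_dvd hb] at k2
  simp only [Nat.beq_refl, Bool.not_true, Bool.false_or, Bool.not_eq_true', List.contains_iff_mem] at k2
  simp_all

end CfsgLib.Recog.UsixMult.Plane
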