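import Cfsg.Agent.Lib.Recog.UsixMult.Plane.Local
import Cfsg.Agent.Lib.Recog.UsixMult.Plane.Mersenne

/-!
# Fusion in the module of an involution centraliser 2.PSU(6, 2)

Owner: helper6.
-/

set_option autoImplicit false
set_option maxRecDepth 20000

namespace CfsgLib.Recog.UsixMult.Plane

open Cfsg CfsgLib.Recog.SporBound CfsgLib.Recog.SporBound.Fi22U6 CfsgLib.Recog.UsixMult CfsgLib.ThreeTrans.CosetIndex

theorem ea_map {H K : Type*} [Group H] [Group K] (f : H →* K) {p : ℕ} {A : Subgroup H}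
    (h : Cfsg.IsElementaryAbelian p A) : Cfsg.IsElementaryAbelian p (A.map f) := by
  refine ⟨⟨⟨fun ⟨a, ha⟩ ⟨b, hb⟩ => Subtype.ext ?_⟩⟩, ?_⟩
  · obtain ⟨x, hx, rfl⟩ := ha
    obtain ⟨y, hy, rfl⟩ := hb
    show _ * _ = _ * _
    rw [← map_mul, ← map_mul, show x * y = y * x from congrArg Subtype.val (h.1.is_comm.comm (⟨x, hx⟩ : A) ⟨y, hy⟩)]
  · rintro _ ⟨x, hx, rfl⟩
    rw [← map_pow, h.2 x hx, map_one]

theorem ea_subgroupOf {H : Type*} [Group H] {p : ℕ} {A : Subgroup H} (h : Cfsg.IsElementaryAbelian p A)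
    (B : Subgroup H) : Cfsg.IsElementaryAbelian p (A.subgroupOf B) :=
  ⟨⟨⟨fun a b => Subtype.ext (Subtype.ext (show (a.1.1 : H) * b.1.1 = b.1.1 * a.1.1 from
      congrArg Subtype.val (h.1.is_comm.comm (⟨a.1.1, a.2⟩ : A) ⟨b.1.1, b.2⟩)))⟩⟩,
    fun a ha => Subtype.ext (h.2 a.1 ha)⟩

theorem range_card (n : ℕ) (p : ℕ → Bool) :
    (List.range n).countP p = (Finset.univ.filter fun w : Fin n => p w = true).card := by
  have e : (List.range n).countP p = ((Finset.range n).filter fun w => p w = true).card := by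
    rw [List.countP_eq_length_filter, ← List.toFinset_card_of_nodup (List.nodup_range.filter _)]
    congr 1
    ext v
    simp
  rw [e]
  refine (Finset.card_bij (fun (w : Fin n) _ => (w : ℕ)) (fun w hw => ?_) (fun a _ b _ h => Fin.ext h) fun w hw => ?_).symm
  · simpa using hw
  · simp only [Finset.mem_filter, Finset.mem_range] at hw
    exact ⟨⟨w, hw.1⟩, by simpa using hw.2, rfl⟩

theorem exists_mask (p : ℕ → Prop) : ∀ n, ∃ k < 2 ^ n, ∀ i < n, (k.testBit i = true ↔ p i)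
  | 0 => ⟨0, by norm_num, fun i hi => absurd hi (by omega)⟩
  | n + 1 => by
    classical
    obtain ⟨k, hk, e⟩ := exists_mask p n
    have h2 : 2 ^ (n + 1) = 2 ^ n + 2 ^ n := by rw [pow_succ]; ring
    by_cases hp : p n
    · refine ⟨2 ^ n + k, by omega, fun i hi => ?_⟩
      rcases Nat.lt_or_ge i n with h | h
      · rw [Nat.testBit_two_pow_add_gt h, e i h]
      · obtain rfl : i = n := by omega
        rw [Nat.testBit_two_pow_add_eq, Nat.testBit_lt_two_pow hk]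
        simpa using hp
    · refine ⟨k, by omega, fun i hi => ?_⟩
      rcases Nat.lt_or_ge i n with h | h
      · exact e i h
      · obtain rfl : i = n := by omega
        rw [Nat.testBit_lt_two_pow hk]
        simpa using hp

theorem inS_zero : ∀ c < 3, ∀ k < 32, inS c k 0 = false := by decide +kernel

theorem reps_lt (i : ℕ) : reps.getD i 0 < 1024 := by
  rcases Nat.lt_or_ge i 6 with h | h
  · have key : ∀ i < 6, reps.getD i 0 < 1024 := by decide +kernel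
    exact key i h
  · rw [List.getD_eq_default _ _ (by simpa [reps] using h)]
    norm_num

namespace Mod

theorem fix_64 {E : Type*} [Group E] {σ : E →* U0} {δ : E} (D : Mod σ δ) {τ : Equiv.Perm (Fin 1024)}
    (hτ : τ ∈ permGp D.ev) (h2 : τ * τ = 1) (h1 : τ ≠ 1) : (fixF τ).card = 64 := by
  haveI : Fact (Nat.Prime 2) := ⟨Nat.prime_two⟩
  obtain ⟨e, he, hM⟩ := D.card_cases
  have hcard : Nat.card (D.UP.subgroupOf (permGp D.ev)) = 2 ^ (Nat.card (permGp D.ev)).factorization 2 := by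
    have key : ∀ e ∈ [105, 315, 945, 2835], e % 2 = 1 := by decide +kernel
    have h2e := key e he
    rw [Nat.card_congr (Subgroup.subgroupOfEquivOfLe D.UP_le).toEquiv, D.card_UP, hM,
      show 64 = 2 ^ 6 by norm_num, Nat.factorization_mul (by norm_num) (by omega), Nat.factorization_pow,
      Finsupp.add_apply, Finsupp.smul_apply, Nat.Prime.factorization_self Nat.prime_two,
      Nat.factorization_eq_zero_of_not_dvd (by omega : ¬ 2 ∣ e)]
    norm_num
  let t : permGp D.ev := ⟨τ, hτ⟩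
  have hp : IsPGroup 2 (Subgroup.zpowers t) := by
    rintro ⟨z, i, rfl⟩
    refine ⟨1, Subtype.ext ?_⟩
    show (t ^ i) ^ 2 = 1
    rw [pow_two, ← (Commute.refl t).mul_zpow, show t * t = 1 from Subtype.ext h2, one_zpow]
  obtain ⟨P, hP⟩ := hp.exists_le_sylow
  obtain ⟨g, hg⟩ := MulAction.exists_smul_eq (permGp D.ev) P (Sylow.ofCard _ hcard)
  have hmem : g * t * g⁻¹ ∈ D.UP.subgroupOf (permGp D.ev) := by
    have : g * t * g⁻¹ ∈ ((g • P : Sylow 2 (permGp D.ev)) : Subgroup (permGp D.ev)) := by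
      rw [Sylow.coe_subgroup_smul]
      exact ⟨t, hP (Subgroup.mem_zpowers t), rfl⟩
    rw [hg] at this
    exact this
  rw [Subgroup.mem_subgroupOf] at hmem
  change g.1 * τ * g.1⁻¹ ∈ D.UP at hmem
  obtain ⟨k, hk, hkv⟩ := D.mem_UP.1 hmem
  rw [← fixF_conj g.1 τ]
  generalize hρ : g.1 * τ * g.1⁻¹ = ρ at hkv
  have hρ2 : ρ * ρ = 1 := by
    rw [← hρ, show g.1 * τ * g.1⁻¹ * (g.1 * τ * g.1⁻¹) = g.1 * (τ * τ) * g.1⁻¹ by group, h2, mul_one, mul_inv_cancel]
  have hρ1 : ρ ≠ 1 := fun e1 => h1 (by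
    rw [show τ = g.1⁻¹ * (g.1 * τ * g.1⁻¹) * g.1 by group, hρ, e1, mul_one, inv_mul_cancel])
  rcases inv_ok D.c D.hc k hk (map_ext (by rw [cmp_len, uM, wordM_len]) (by simp [idM]) fun v hv => by
      rw [app_idM hv, app_cmp, ← hkv ⟨v, hv⟩, ← hkv, ← Equiv.Perm.mul_apply, hρ2]; rfl) with rfl | hki
  · refine absurd (Equiv.ext fun v => Fin.ext ?_) hρ1
    rw [hkv, (next_ok D.c D.hc).1, app_idM v.2]
    rfl
  rw [← (fix_ok D.c D.hc).1 k hki, fixCount, range_card]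
  congr 1
  ext v
  simp [fixF, ← hkv, Fin.ext_iff]

variable {G : Type*} [Group G] {d : G} {σ : ↥(Subgroup.centralizer ({d} : Set G)) →* U0}
  {δ : ↥(Subgroup.centralizer ({d} : Set G))} (D : Mod σ δ)

/-- The element of a vector in the group. -/
noncomputable def evG (v : ℕ) : G := (D.ev v : G)

/-- The module in the group. -/
def AG : Subgroup G := D.AA.map (Subgroup.centralizer ({d} : Set G)).subtype

theorem mem_AG {x : G} : x ∈ D.AG ↔ ∃ v < 1024, D.evG v = x := by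
  refine ⟨?_, fun ⟨v, hv, e⟩ => ⟨D.ev v, D.ev_mem hv, e⟩⟩
  rintro ⟨_, ⟨v, hv, rfl⟩, rfl⟩
  exact ⟨v, hv, rfl⟩

theorem evG_mem {v : ℕ} (hv : v < 1024) : D.evG v ∈ D.AG := D.mem_AG.2 ⟨v, hv, rfl⟩

theorem evG_xor (v w : ℕ) : D.evG (v ^^^ w) = D.evG v * D.evG w := congrArg Subtype.val (D.ev_xor v w)

theorem evG_inj : ∀ v < 1024, ∀ w < 1024, D.evG v = D.evG w → v = w :=
  fun _ hv _ hw h => D.ev_inj hv hw (Subtype.ext h)

theorem isElem_AG : Cfsg.IsElementaryAbelian 2 D.AG := ea_map _ D.isElem_AA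

theorem card_AG : Nat.card D.AG = 1024 :=
  (Subgroup.card_map_of_injective (Subgroup.subtype_injective _)).trans D.card_AA

variable [Finite G] (hδ : (δ : G) = d)

theorem normalises {n : G} (hn : ∀ a ∈ D.AG, n * a * n⁻¹ ∈ D.AG) : n ∈ Subgroup.normalizer (D.AG : Set G) := by
  have e : D.AG.map (MulAut.conj n).toMonoidHom = D.AG := by
    refine Subgroup.eq_of_le_of_card_ge ?_ (le_of_eq (Subgroup.card_map_of_injective (MulAut.conj n).injective).symm)
    rintro _ ⟨a, ha, rfl⟩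
    exact hn a ha
  refine Subgroup.mem_normalizer_iff.2 fun a => ⟨hn a, fun h => ?_⟩
  rw [← e] at h
  obtain ⟨b, hb, hbe⟩ := h
  have := (MulAut.conj n).injective (hbe : (MulAut.conj n) b = n * a * n⁻¹)
  rwa [← this]

theorem exists_perm_of {n : G} (hn : ∀ a ∈ D.AG, n * a * n⁻¹ ∈ D.AG) :
    ∃ π ∈ permGp D.evG, ∀ v : Fin 1024, n * D.evG v * n⁻¹ = D.evG (π v : ℕ) :=
  exists_perm D.evG_inj fun v hv => by
    obtain ⟨w, hw, e⟩ := D.mem_AG.1 (hn _ (D.evG_mem hv))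
    exact ⟨w, hw, e.symm⟩

include hδ

theorem evG_one : D.evG 1 = d := by rw [evG, D.ev_one, hδ]

theorem to_d {x : G} (hx : x ∈ D.AG) (hc : IsConj d x) :
    ∃ n : G, (∀ a ∈ D.AG, n * a * n⁻¹ ∈ D.AG) ∧ n * x * n⁻¹ = d := by
  obtain ⟨g, hg⟩ := isConj_iff.1 hc.symm
  have hC : D.AG.map (MulAut.conj g).toMonoidHom ≤ Subgroup.centralizer ({d} : Set G) := by
    rintro _ ⟨a, ha, rfl⟩
    rw [Subgroup.mem_centralizer_singleton_iff]
    show g * a * g⁻¹ * d = d * (g * a * g⁻¹)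
    rw [← hg]
    have hax : a * x = x * a := congrArg Subtype.val (D.isElem_AG.1.is_comm.comm (⟨a, ha⟩ : D.AG) ⟨x, hx⟩)
    calc g * a * g⁻¹ * (g * x * g⁻¹) = g * (a * x) * g⁻¹ := by group
      _ = g * (x * a) * g⁻¹ := by rw [hax]
      _ = _ := by group
  obtain ⟨c, hcF⟩ := D.exists_conj_AA
    (F := (D.AG.map (MulAut.conj g).toMonoidHom).subgroupOf (Subgroup.centralizer ({d} : Set G)))
    (ea_subgroupOf (ea_map _ D.isElem_AG) _)
    (by rw [Nat.card_congr (Subgroup.subgroupOfEquivOfLe hC).toEquiv,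
      Subgroup.card_map_of_injective (MulAut.conj g).injective, D.card_AG])
  refine ⟨(c : G) * g, fun a ha => ?_, ?_⟩
  · have hm : c * ⟨g * a * g⁻¹, hC ⟨a, ha, rfl⟩⟩ * c⁻¹ ∈ D.AA :=
      hcF ▸ ⟨⟨g * a * g⁻¹, hC ⟨a, ha, rfl⟩⟩, ⟨a, ha, rfl⟩, rfl⟩
    rw [show (c : G) * g * a * ((c : G) * g)⁻¹ = (c : G) * (g * a * g⁻¹) * (c : G)⁻¹ by group]
    exact ⟨_, hm, rfl⟩
  · have hcd : (c : G) * d = d * c := Subgroup.mem_centralizer_singleton_iff.1 c.2
    rw [show (c : G) * g * x * ((c : G) * g)⁻¹ = (c : G) * (g * x * g⁻¹) * (c : G)⁻¹ by group, hg, hcd,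
      mul_inv_cancel_right]

theorem transitive {x y : G} (hx : x ∈ D.AG) (hy : y ∈ D.AG) (hcx : IsConj d x) (hcy : IsConj d y) :
    ∃ n ∈ Subgroup.normalizer (D.AG : Set G), n * x * n⁻¹ = y := by
  obtain ⟨n, hn, hnx⟩ := D.to_d hδ hx hcx
  obtain ⟨m, hm, hmy⟩ := D.to_d hδ hy hcy
  refine ⟨m⁻¹ * n, mul_mem (inv_mem (D.normalises hm)) (D.normalises hn), ?_⟩
  rw [show m⁻¹ * n * x * (m⁻¹ * n)⁻¹ = m⁻¹ * (n * x * n⁻¹) * m by group, hnx, ← hmy]
  group

theorem stab_eq : permGp D.evG ⊓ MulAction.stabilizer (Equiv.Perm (Fin 1024)) (1 : Fin 1024) = permGp D.ev := by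
  ext π
  constructor
  · rintro ⟨⟨n, hn⟩, hπ⟩
    have hn1 := hn 1
    rw [show π 1 = 1 from hπ] at hn1
    change n * D.evG 1 * n⁻¹ = D.evG 1 at hn1
    rw [D.evG_one hδ] at hn1
    refine ⟨⟨n, Subgroup.mem_centralizer_singleton_iff.2 (mul_inv_eq_iff_eq_mul.1 hn1)⟩, fun v => Subtype.ext ?_⟩
    exact hn v
  · rintro ⟨n, hn⟩
    refine ⟨⟨n, fun v => congrArg Subtype.val (hn v)⟩, ?_⟩
    show π 1 = 1
    refine Fin.ext (D.ev_inj (π 1).2 (by norm_num) ?_)
    rw [← hn]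
    show n * D.ev 1 * n⁻¹ = D.ev 1
    rw [D.ev_one, ← D.central, mul_inv_cancel_right]

theorem classify_22 (hnwc : ∃ g : G, g * d * g⁻¹ ∈ Subgroup.centralizer ({d} : Set G) ∧ g * d * g⁻¹ ≠ d) :
    ∃ k < 32, (∀ v < 1024, inS D.c k v = true ↔ IsConj d (D.evG v)) ∧ size D.c k = 22 := by
  classical
  obtain ⟨k, hk, hmask⟩ := exists_mask (fun i => IsConj d (D.evG (reps.getD (i + 1) 0))) 5
  have hzero : ¬ IsConj d (D.evG 0) := by
    intro h
    rw [show D.evG 0 = 1 from congrArg Subtype.val D.ev_zero, isConj_one_left] at h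
    exact D.ne (Subtype.ext (hδ.trans h))
  have hS : ∀ v < 1024, inS D.c k v = true ↔ IsConj d (D.evG v) := by
    intro v hv
    rcases Nat.eq_zero_or_pos v with rfl | hpos
    · rw [inS_zero D.c D.hc k hk]
      simpa using hzero
    by_cases h1 : v = 1
    · subst h1
      have hl : lab D.c 1 = 0 := (reach_ok D.c D.hc).2 0 (by norm_num)
      rw [D.evG_one hδ]
      exact iff_of_true (by simp [inS, hl]) (IsConj.refl d)
    obtain ⟨l1, l5⟩ := D.lab_cases (by omega : 2 ≤ v) hv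
    have horb := D.orbit_prop (P := fun x => IsConj d (x : G)) (fun x g => by
      have hc : IsConj (x : G) ((g * x * g⁻¹ : ↥(Subgroup.centralizer ({d} : Set G))) : G) :=
        isConj_iff.2 ⟨g, rfl⟩
      exact ⟨fun e => e.trans hc, fun e => e.trans hc.symm⟩) (v := v) (by omega) hv
    have hl0 : Nat.beq (lab D.c v) 0 = false := by
      rw [Bool.eq_false_iff]
      intro e
      have := Nat.eq_of_beq_eq_true e
      omega
    have hm := hmask (lab D.c v - 1) (by omega)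
    rw [show lab D.c v - 1 + 1 = lab D.c v by omega] at hm
    simp only [inS, hl0, Bool.false_or, Bool.and_eq_true, Nat.ble_eq, l1, l5, true_and]
    rw [hm]
    exact horb.symm
  have hperm : ∀ v : Fin 1024, inS D.c k v = true → ∃ π ∈ permGp D.evG, π v = 1 ∧
      ∀ w : Fin 1024, inS D.c k w = inS D.c k (π w : ℕ) := by
    intro v hv
    obtain ⟨n, hn, hnv⟩ := D.to_d hδ (D.evG_mem v.2) ((hS v v.2).1 hv)
    obtain ⟨π, hπ, hπe⟩ := D.exists_perm_of hn
    refine ⟨π, hπ, Fin.ext (D.evG_inj _ (π v).2 _ (by norm_num) ?_), fun w => ?_⟩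
    · rw [← hπe, hnv]
      exact (D.evG_one hδ).symm
    · rw [Bool.eq_iff_iff, hS w w.2, hS _ (π w).2, ← hπe]
      have hc : IsConj (D.evG w) (n * D.evG w * n⁻¹) := isConj_iff.2 ⟨n, rfl⟩
      exact ⟨fun e => e.trans hc, fun e => e.trans hc.symm⟩
  refine ⟨k, hk, hS, ?_⟩
  have hcount := count_ok D.c D.hc k hk
  simp only [countB, Bool.or_eq_true, Nat.beq_eq, Bool.and_eq_true, Bool.not_eq_true'] at hcount
  rcases hcount with ((h | h) | h) | ⟨hr, hne⟩
  · exfalso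
    obtain ⟨g, hgC, hgd⟩ := hnwc
    have hd2 : d * d = 1 := by rw [← hδ, ← Subgroup.coe_mul, D.sq]; rfl
    have hy : (⟨g * d * g⁻¹, hgC⟩ : ↥(Subgroup.centralizer ({d} : Set G))) * ⟨g * d * g⁻¹, hgC⟩ = 1 := Subtype.ext (by
      show g * d * g⁻¹ * (g * d * g⁻¹) = 1
      rw [show g * d * g⁻¹ * (g * d * g⁻¹) = g * (d * d) * g⁻¹ by group, hd2, mul_one, mul_inv_cancel])
    obtain ⟨c, v, hv, hve⟩ := D.involution_conj hy
    have hve' : D.evG v = (c : G) * (g * d * g⁻¹) * (c : G)⁻¹ := congrArg Subtype.val hve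
    have hcv : IsConj d (D.evG v) := isConj_iff.2 ⟨(c : G) * g, by rw [hve']; group⟩
    rw [size, range_card, Finset.card_eq_one] at h
    obtain ⟨a, ha⟩ := h
    have hva : (⟨v, hv⟩ : Fin 1024) = a := by
      rw [← Finset.mem_singleton, ← ha, Finset.mem_filter]
      exact ⟨Finset.mem_univ _, (hS v hv).2 hcv⟩
    have h1a : (1 : Fin 1024) = a := by
      rw [← Finset.mem_singleton, ← ha, Finset.mem_filter]
      exact ⟨Finset.mem_univ _, (hS 1 (by norm_num)).2 (by rw [D.evG_one hδ])⟩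
    have hv1 : v = 1 := congrArg Fin.val (hva.trans h1a.symm)
    apply hgd
    rw [hv1, D.evG_one hδ] at hve'
    have hcd : (c : G) * d = d * c := Subgroup.mem_centralizer_singleton_iff.1 c.2
    calc g * d * g⁻¹ = (c : G)⁻¹ * ((c : G) * (g * d * g⁻¹) * (c : G)⁻¹) * c := by group
      _ = (c : G)⁻¹ * (d * c) := by rw [← hve', mul_assoc]
      _ = d := by rw [← hcd, inv_mul_cancel_left]
  · exact h
  · exfalso
    obtain ⟨e, he, hM⟩ := D.card_cases
    refine not_transitive D.evG_xor D.evG_inj he (by rw [D.stab_eq hδ]; exact hM)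
      (fun τ hτ h1 h2 hne1 => D.fix_64 ((D.stab_eq hδ) ▸ ⟨hτ, h1⟩) h2 hne1) fun v hv => ?_
    rw [size, range_card] at h
    have hall : Finset.univ.filter (fun w : Fin 1024 => inS D.c k w = true) = Finset.univ.erase 0 := by
      refine Finset.eq_of_subset_of_card_le (fun w hw => Finset.mem_erase.2 ⟨fun e0 => ?_, Finset.mem_univ _⟩)
        (by rw [h, Finset.card_erase_of_mem (Finset.mem_univ _), Finset.card_univ, Fintype.card_fin])
      rw [Finset.mem_filter, e0] at hw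
      have := inS_zero D.c D.hc k hk
      rw [show ((0 : Fin 1024) : ℕ) = 0 from rfl, this] at hw
      exact Bool.noConfusion hw.2
    have hvS : inS D.c k v = true :=
      (Finset.mem_filter.1 (hall.symm ▸ Finset.mem_erase.2 ⟨hv, Finset.mem_univ _⟩ : v ∈ _)).2
    obtain ⟨π, hπ, hπv, -⟩ := hperm v hvS
    exact ⟨π⁻¹, inv_mem hπ, by rw [← hπv]; exact π.symm_apply_apply v⟩
  · exfalso
    obtain ⟨π, hπ, hπr, hπS⟩ := hperm ⟨_, reps_lt ((witN.getD D.c []).getD k 0)⟩ hr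
    have : cnt D.c k (reps.getD ((witN.getD D.c []).getD k 0) 0) = cnt D.c k 1 := by
      rw [cnt, cnt, range_card, range_card]
      refine Finset.card_equiv π fun w => ?_
      simp only [Finset.mem_filter, Finset.mem_univ, true_and, Bool.and_eq_true, Nat.xor_eq]
      rw [hπS w]
      have hx := congrArg Fin.val (perm_xor D.evG_xor D.evG_inj hπ ⟨_, reps_lt ((witN.getD D.c []).getD k 0)⟩ w)
      rw [hπr] at hx
      have hs := hπS (xf ⟨_, reps_lt ((witN.getD D.c []).getD k 0)⟩ w)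
      rw [hx] at hs
      exact and_congr_right' (by rw [show inS D.c k (_ ^^^ (w : ℕ)) = _ from hs]; rfl)
    rw [this] at hne
    simp at hne

theorem ncard_eq_22 (hnwc : ∃ g : G, g * d * g⁻¹ ∈ Subgroup.centralizer ({d} : Set G) ∧ g * d * g⁻¹ ≠ d) :
    Set.ncard {x : G | x ∈ D.AG ∧ IsConj d x} = 22 := by
  obtain ⟨k, hk, hS, h22⟩ := D.classify_22 hδ hnwc
  rw [← h22]
  rw [size, range_card, ← Set.ncard_coe_finset]
  refine Eq.trans ?_ (Set.ncard_image_of_injective _ (fun a b h => Fin.ext (D.evG_inj _ a.2 _ b.2 h) :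
    Function.Injective fun v : Fin 1024 => D.evG v))
  congr 1
  ext x
  simp only [Set.mem_setOf_eq, Set.mem_image, Finset.coe_filter, Finset.mem_univ, true_and]
  constructor
  · rintro ⟨hx, hc⟩
    obtain ⟨v, hv, rfl⟩ := D.mem_AG.1 hx
    exact ⟨⟨v, hv⟩, (hS v hv).2 hc, rfl⟩
  · rintro ⟨v, hv, rfl⟩
    exact ⟨D.evG_mem v.2, (hS v v.2).1 hv⟩

omit hδ in
theorem thompson (S : Sylow 2 ↥(Subgroup.centralizer ({d} : Set G))) :
    ∃ g : ↥(Subgroup.centralizer ({d} : Set G)),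
      Cfsg.thompsonSubgroupOf 2 (S : Subgroup ↥(Subgroup.centralizer ({d} : Set G))) =
        D.AA.map (MulAut.conj g).toMonoidHom := by
  obtain ⟨g, hg⟩ := D.conj_into_SS S.isPGroup'
  have hle : (S : Subgroup ↥(Subgroup.centralizer ({d} : Set G))).map (MulAut.conj g).toMonoidHom ≤ D.SS := by
    rintro _ ⟨x, hx, rfl⟩
    exact hg x hx
  haveI : Fact (Nat.Prime 2) := ⟨Nat.prime_two⟩
  have hmapeq : (S : Subgroup ↥(Subgroup.centralizer ({d} : Set G))).map (MulAut.conj g).toMonoidHom = D.SS := by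
    refine Subgroup.eq_of_le_of_card_ge hle ?_
    obtain ⟨Q, hQ⟩ := (IsPGroup.of_card D.card_SS).exists_le_sylow
    rw [Subgroup.card_map_of_injective (MulAut.conj g).injective, Sylow.card_eq_multiplicity S,
      ← Sylow.card_eq_multiplicity Q]
    exact Subgroup.card_le_of_le hQ
  refine ⟨g⁻¹, ?_⟩
  set A0 := D.AA.map (MulAut.conj g⁻¹).toMonoidHom with hA0
  have hA0S : A0 ≤ S := by
    rintro _ ⟨a, ha, rfl⟩
    obtain ⟨s, hs, hse⟩ := hmapeq.symm ▸ D.AA_le_SS ha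
    rw [← hse]
    show g⁻¹ * (g * s * g⁻¹) * g⁻¹⁻¹ ∈ S
    rwa [show g⁻¹ * (g * s * g⁻¹) * g⁻¹⁻¹ = s by group]
  have hcard0 : Nat.card (A0.subgroupOf S) = 1024 := by
    rw [Nat.card_congr (Subgroup.subgroupOfEquivOfLe hA0S).toEquiv, hA0,
      Subgroup.card_map_of_injective (MulAut.conj g⁻¹).injective, D.card_AA]
  have huniq : ∀ B : Subgroup S, Cfsg.IsElementaryAbelian 2 B → 1024 ≤ Nat.card B → B = A0.subgroupOf S := by
    intro B hB hcB
    have e := D.eq_AA (ea_map (MulAut.conj g).toMonoidHom (ea_map (S : Subgroup _).subtype hB))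
      ((Subgroup.map_mono (Subgroup.map_subtype_le B)).trans hle)
      (by rwa [Subgroup.card_map_of_injective (MulAut.conj g).injective,
        Subgroup.card_map_of_injective (Subgroup.subtype_injective _)])
    refine Subgroup.eq_of_le_of_card_ge (fun b hb => Subgroup.mem_subgroupOf.2
      ⟨g * b.1 * g⁻¹, e ▸ ⟨b.1, ⟨b, hb, rfl⟩, rfl⟩, ?_⟩) (by rw [hcard0]; exact hcB)
    show g⁻¹ * (g * b.1 * g⁻¹) * g⁻¹⁻¹ = b.1
    group
  have hEA0 : Cfsg.IsElementaryAbelian 2 (A0.subgroupOf S) := ea_subgroupOf (ea_map _ D.isElem_AA) _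
  have hbound : ∀ B : Subgroup S, Cfsg.IsElementaryAbelian 2 B → Nat.card B ≤ 1024 := fun B hB => by
    by_contra hlt
    rw [huniq B hB (by omega), hcard0] at hlt
    omega
  have hmax : Cfsg.maxElementaryAbelianSubgroups 2 S = {A0.subgroupOf S} := by
    ext B
    refine ⟨fun ⟨hB, hmx⟩ => huniq B hB (hcard0 ▸ hmx _ hEA0), ?_⟩
    rintro rfl
    exact ⟨hEA0, fun B hB => hcard0 ▸ hbound B hB⟩
  rw [Cfsg.thompsonSubgroupOf, Cfsg.thompsonSubgroup, hmax, sSup_singleton, Subgroup.subgroupOf_map_subtype,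
    inf_eq_left.2 hA0S]

include D in
theorem main (hnwc : ∃ g : G, g * d * g⁻¹ ∈ Subgroup.centralizer ({d} : Set G) ∧ g * d * g⁻¹ ≠ d)
    (S : Sylow 2 ↥(Subgroup.centralizer ({d} : Set G))) (A : Subgroup G)
    (hA : A = (Cfsg.thompsonSubgroupOf 2 (S : Subgroup ↥(Subgroup.centralizer ({d} : Set G)))).map
      (Subgroup.centralizer ({d} : Set G)).subtype) :
    Cfsg.IsElementaryAbelian 2 A ∧ Nat.card A = 2 ^ 10 ∧ Set.ncard {x : G | x ∈ A ∧ IsConj d x} = 22 ∧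
      ∀ x ∈ A, ∀ y ∈ A, IsConj d x → IsConj d y → ∃ n ∈ Subgroup.normalizer (A : Set G), n * x * n⁻¹ = y := by
  obtain ⟨g, hg⟩ := D.thompson S
  obtain ⟨h, hh⟩ : ∃ h : G, h = (g : G) := ⟨_, rfl⟩
  have hA' : A = D.AG.map (MulAut.conj h).toMonoidHom := by
    rw [hA, hg, AG, Subgroup.map_map, Subgroup.map_map, hh]
    rfl
  have hmem : ∀ b, b ∈ A ↔ h⁻¹ * b * h ∈ D.AG := fun b => by
    rw [hA']
    refine ⟨?_, fun hb => ⟨_, hb, ?_⟩⟩
    · rintro ⟨a, ha, rfl⟩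
      show h⁻¹ * (h * a * h⁻¹) * h ∈ D.AG
      rwa [show h⁻¹ * (h * a * h⁻¹) * h = a by group]
    · show h * (h⁻¹ * b * h) * h⁻¹ = b
      group
  have hconj : ∀ x, IsConj d x ↔ IsConj d (h⁻¹ * x * h) := fun x => by
    have hc : IsConj x (h⁻¹ * x * h) := isConj_iff.2 ⟨h⁻¹, by group⟩
    exact ⟨fun e => e.trans hc, fun e => e.trans hc.symm⟩
  refine ⟨hA' ▸ ea_map _ D.isElem_AG, ?_, ?_, ?_⟩
  · rw [hA', Subgroup.card_map_of_injective (MulAut.conj h).injective, D.card_AG]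
    norm_num
  · rw [← D.ncard_eq_22 hδ hnwc, ← Set.ncard_image_of_injective {x : G | x ∈ A ∧ IsConj d x}
      (MulAut.conj h⁻¹).injective]
    congr 1
    ext x
    simp only [Set.mem_image, Set.mem_setOf_eq, MulAut.conj_apply, inv_inv]
    constructor
    · rintro ⟨b, ⟨hb, hcb⟩, rfl⟩
      exact ⟨(hmem b).1 hb, (hconj b).1 hcb⟩
    · rintro ⟨hx, hcx⟩
      have e : h⁻¹ * (h * x * h⁻¹) * h = x := by group
      exact ⟨h * x * h⁻¹, ⟨(hmem _).2 (by rwa [e]), (hconj _).2 (by rwa [e])⟩, e⟩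
  · intro x hx y hy hcx hcy
    obtain ⟨n, hn, hne⟩ := D.transitive hδ ((hmem x).1 hx) ((hmem y).1 hy) ((hconj x).1 hcx) ((hconj y).1 hcy)
    refine ⟨h * n * h⁻¹, Subgroup.mem_normalizer_iff.2 fun b => ?_, ?_⟩
    · change b ∈ A ↔ h * n * h⁻¹ * b * (h * n * h⁻¹)⁻¹ ∈ A
      rw [hmem, hmem]
      have hh' := Subgroup.mem_normalizer_iff.1 hn (h⁻¹ * b * h)
      change h⁻¹ * b * h ∈ D.AG ↔ n * (h⁻¹ * b * h) * n⁻¹ ∈ D.AG at hh'
      rw [hh', show h⁻¹ * (h * n * h⁻¹ * b * (h * n * h⁻¹)⁻¹) * h = n * (h⁻¹ * b * h) * n⁻¹ by group]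
    · calc h * n * h⁻¹ * x * (h * n * h⁻¹)⁻¹ = h * (n * (h⁻¹ * x * h) * n⁻¹) * h⁻¹ := by group
        _ = _ := by rw [hne]; group

end Mod

end CfsgLib.Recog.UsixMult.Plane
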