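import Cfsg.Agent.Lib.Recog.UsixMult.Plane.Tables

/-!
# Linearity of the tabulated maps and orbits of a closed property

Owner: helper6.
-/

set_option autoImplicit false

namespace CfsgLib.Recog.UsixMult.Plane

theorem xor_div_two (v w : ℕ) : (v ^^^ w) / 2 = v / 2 ^^^ w / 2 :=
  Nat.eq_of_testBit_eq fun i => by simp [Nat.testBit_div_two, Nat.testBit_xor]

theorem app_xor : ∀ (M : List ℕ) (v w : ℕ), app M (v ^^^ w) = app M v ^^^ app M w
  | [], v, w => by simp [app]
  | x :: M, v, w => by
    have h2 : (v ^^^ w).testBit 0 = xor (v.testBit 0) (w.testBit 0) := Nat.testBit_xor v w 0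
    simp only [Nat.testBit_zero] at h2
    simp only [app, xor_div_two, app_xor M, Nat.xor_eq]
    rcases Nat.mod_two_eq_zero_or_one v with hv | hv <;> rcases Nat.mod_two_eq_zero_or_one w with hw | hw <;>
      simp [hv, hw] at h2 <;>
      simp [hv, hw, h2, Nat.xor_assoc, Nat.xor_comm, Nat.xor_left_comm]

theorem app_zero : ∀ M : List ℕ, app M 0 = 0
  | [] => rfl
  | x :: M => by simp [app, app_zero M]

theorem app_pow : ∀ (M : List ℕ) (i : ℕ), app M (2 ^ i) = M.getD i 0
  | [], i => by simp [app]
  | x :: M, 0 => by simp [app, app_zero]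
  | x :: M, i + 1 => by simp [app, pow_succ, app_pow M]

theorem app_lt : ∀ {M : List ℕ}, (∀ x ∈ M, x < 1024) → ∀ v, app M v < 1024
  | [], _, v => by simp [app]
  | x :: M, h, v => by
    simp only [app]
    refine Nat.xor_lt_two_pow (n := 10) ?_ (app_lt (fun y hy => h y (List.mem_cons_of_mem _ hy)) _)
    split_ifs
    · exact h x List.mem_cons_self
    · norm_num

theorem app_cmp (A : List ℕ) : ∀ (B : List ℕ) (v : ℕ), app (cmp A B) v = app A (app B v)
  | [], v => by simp [cmp, app, app_zero]
  | x :: B, v => by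
    have := app_cmp A B (v / 2)
    simp only [cmp, List.map_cons, app, Nat.xor_eq, app_xor] at this ⊢
    rw [this]
    split_ifs <;> simp [app_zero]

/-- Induction on the bits below `n`. -/
theorem bit_induction {P : ℕ → Prop} (h0 : P 0) {n : ℕ} (h : ∀ v i, i < n → P v → P (v ^^^ 2 ^ i)) :
    ∀ v < 2 ^ n, P v := by
  suffices ∀ m ≤ n, ∀ v < 2 ^ m, P v from fun v hv => this n le_rfl v hv
  intro m
  induction m with
  | zero => intro _ v hv; rw [pow_zero, Nat.lt_one_iff] at hv; exact hv ▸ h0
  | succ m ih =>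
    intro hm v hv
    rcases Nat.lt_or_ge v (2 ^ m) with hlt | hge
    · exact ih (by omega) v hlt
    · have hlo : v - 2 ^ m < 2 ^ m := by rw [pow_succ] at hv; omega
      have e : (v - 2 ^ m) ^^^ 2 ^ m = v := by
        have e1 : 2 ^ m + (v - 2 ^ m) = v := by omega
        refine Nat.eq_of_testBit_eq fun i => ?_
        conv_rhs => rw [← e1]
        rw [Nat.testBit_xor, Nat.testBit_two_pow]
        rcases lt_trichotomy i m with hi | hi | hi
        · rw [Nat.testBit_two_pow_add_gt hi, decide_eq_false (Nat.ne_of_gt hi), Bool.xor_false]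
        · subst hi
          rw [Nat.testBit_two_pow_add_eq, Nat.testBit_lt_two_pow hlo]
          simp
        · rw [Nat.testBit_lt_two_pow (hlo.trans (Nat.pow_lt_pow_right (by norm_num) hi)),
            decide_eq_false (Nat.ne_of_lt hi), Bool.xor_false, Nat.testBit_lt_two_pow]
          rw [e1]
          exact hv.trans_le (Nat.pow_le_pow_right (by norm_num) hi)
      rw [← e]
      exact h _ m (by omega) (ih (by omega) _ hlo)

theorem testBit_top {n v : ℕ} (h2 : v < n) (h1 : 1 ≤ v) : (2 ^ n - 2).testBit v = true := by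
  rw [show (2 ^ n - 2 : ℕ) = 2 ^ n - (1 + 1) from rfl,
    Nat.testBit_two_pow_sub_succ (Nat.one_lt_two_pow (by omega))]
  have hz : Nat.testBit 1 v = false := Nat.testBit_lt_two_pow (Nat.one_lt_two_pow (by omega))
  simp [h2, hz]

theorem reach_spec {c : ℕ} {P : ℕ → Prop} (hstep : ∀ g < 5, ∀ u < 1024, P u → P (app (genM c g) u)) :
    ∀ (L : List ℕ) (m : ℕ), reachB c m L = true →
      (∀ v, m.testBit v = true → P (reps.getD (lab c v) 0) → P v) →
      ∀ v, 1 ≤ v → v < 1024 → P (reps.getD (lab c v) 0) → P v := by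
  intro L
  induction L with
  | nil =>
    intro m h hm v h1 h2
    rw [Nat.eq_of_beq_eq_true h] at hm
    exact hm v (testBit_top h2 h1)
  | cons e L ih =>
    intro m h hm
    rw [reachB, Bool.and_eq_true] at h
    obtain ⟨hs, hL⟩ := h
    simp only [stepB, Bool.and_eq_true, Nat.blt_eq, Nat.beq_eq] at hs
    obtain ⟨⟨⟨⟨⟨h1, h2⟩, h3⟩, -⟩, h5⟩, h6⟩ := hs
    refine ih _ hL fun v hv => ?_
    change (m ||| 2 ^ (e / 65536)).testBit v = true at hv
    rw [Nat.testBit_or, Nat.testBit_two_pow, Bool.or_eq_true, decide_eq_true_eq] at hv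
    rcases hv with hv | rfl
    · exact hm v hv
    · intro hP
      rw [← h5]
      exact hstep _ h3 _ h2 (hm _ h1 (h6 ▸ hP))

theorem repMask_mem {v : ℕ} : repMask.testBit v = true → v ∈ reps := by
  rw [repMask]
  induction reps with
  | nil => simp
  | cons x L ih =>
    rw [List.foldr_cons]
    intro h
    change (_ ||| 2 ^ x).testBit v = true at h
    rw [Nat.testBit_or, Nat.testBit_two_pow, Bool.or_eq_true, decide_eq_true_eq] at h
    rcases h with h | rfl
    · exact List.mem_cons_of_mem _ (ih h)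
    · exact List.mem_cons_self

/-- A property preserved by the generators is constant on each orbit. -/
theorem orbit_iff {c : ℕ} (hc : c < 3) {P : ℕ → Prop} (hstep : ∀ g < 5, ∀ u < 1024, (P u ↔ P (app (genM c g) u)))
    {v : ℕ} (h1 : 1 ≤ v) (h2 : v < 1024) : P v ↔ P (reps.getD (lab c v) 0) := by
  obtain ⟨hr, hlab⟩ := reach_ok c hc
  have start : ∀ (Q : ℕ → Prop) (w : ℕ), repMask.testBit w = true → Q (reps.getD (lab c w) 0) → Q w := by
    intro Q w hw
    obtain ⟨i, hi, rfl⟩ := List.getElem_of_mem (repMask_mem hw)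
    rw [← List.getD_eq_getElem _ 0 hi, hlab i hi]
    exact id
  constructor
  · intro hP
    by_contra hn
    exact reach_spec (P := fun u => ¬ P u) (fun g hg u hu h => fun h' => h ((hstep g hg u hu).2 h'))
      _ _ hr (start (fun u => ¬ P u)) v h1 h2 hn hP
  · exact reach_spec (fun g hg u hu => (hstep g hg u hu).1) _ _ hr (start _) v h1 h2

end CfsgLib.Recog.UsixMult.Plane
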