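import Cfsg.Agent.Lib.Recog.UsixMult.Plane.Signs
import Cfsg.Agent.Lib.Recog.UsixMult.Plane.Linear

/-!
# The module of order 2^10 in a double cover of PSU(6, 2)

Owner: helper6.
-/

set_option autoImplicit false
set_option maxRecDepth 20000

namespace CfsgLib.Recog.UsixMult.Plane

open Cfsg CfsgLib.Recog.SporBound CfsgLib.Recog.SporBound.Fi22U6 CfsgLib.Recog.UsixMult CfsgLib.ThreeTrans.CosetIndex
open scoped Matrix

theorem lab_ok : ∀ c < 3, ∀ v < 1024, (lab c v = 0 → v = 1) ∧ (v ≠ 0 → lab c v ≤ 5) := by decide +kernel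

theorem bword_pow {i : ℕ} (hi : i < 9) : bword (2 ^ i) = bw i := by
  have h : ∀ i < 9, bword (2 ^ i) = bw i := by decide +kernel
  exact h i hi

theorem idx_lt (i : ℕ) : idxB.getD i 0 < 21 := by
  rcases Nat.lt_or_ge i 9 with hi | hi
  · exact (basis_ok i hi).2
  · rw [List.getD_eq_default _ _ (show idxB.length ≤ i from le_trans (by decide +kernel) hi)]
    norm_num

theorem prod_xor {E : Type*} [Group E] {ι : Type*} (f : ι → E) (hsq : ∀ i, f i * f i = 1) :
    ∀ (L : List ι), (∀ i ∈ L, ∀ k ∈ L, f i * f k = f k * f i) → ∀ p q : ι → Bool,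
      (L.map fun i => if xor (p i) (q i) then f i else 1).prod =
        (L.map fun i => if p i then f i else 1).prod * (L.map fun i => if q i then f i else 1).prod
  | [], _, _, _ => by simp
  | i :: L, hc, p, q => by
    have ih := prod_xor f hsq L (fun a ha b hb => hc a (List.mem_cons_of_mem _ ha) b (List.mem_cons_of_mem _ hb)) p q
    have hcom : Commute (f i) (L.map fun k => if p k then f k else 1).prod := by
      refine Commute.list_prod_right _ _ fun y hy => ?_
      obtain ⟨k, hk, rfl⟩ := List.mem_map.1 hy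
      by_cases hp : p k
      · simp only [hp, if_true]; exact hc i List.mem_cons_self k (List.mem_cons_of_mem _ hk)
      · simp [hp]
    simp only [List.map_cons, List.prod_cons, ih]
    generalize hP : (L.map fun k => if p k then f k else 1).prod = P at hcom ⊢
    generalize (L.map fun k => if q k then f k else 1).prod = Q
    cases p i <;> cases q i <;> simp only [Bool.xor_false, Bool.false_xor, Bool.xor_true, Bool.not_true,
      Bool.not_false, if_true, Bool.false_eq_true, if_false, one_mul, mul_one]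
    · rw [← mul_assoc, hcom.eq, mul_assoc]
    · simp only [mul_assoc]
    · calc P * Q = f i * f i * P * Q := by rw [hsq, one_mul]
        _ = f i * (f i * P) * Q := by simp only [mul_assoc]
        _ = f i * (P * f i) * Q := by rw [hcom.eq]
        _ = _ := by simp only [mul_assoc]

variable {E : Type*} [Group E] {σ : E →* U0} {δ : E} (D : Mod σ δ)

namespace Mod

/-- The value of a word. -/
noncomputable def W (w : List ℕ) : E := D.Φ ((w.map bP).prod)

theorem W_append (u w : List ℕ) : D.W (u ++ w) = D.W u * D.W w := by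
  simp only [W, List.map_append, List.prod_append, map_mul]

theorem W_nil : D.W [] = 1 := by simp [W]

theorem W_reverse (w : List ℕ) : D.W w.reverse = (D.W w)⁻¹ := by
  simp only [W, prod_reverse_eq_inv bP bP_sq, map_inv]

theorem σ_W (w : List ℕ) : σ (D.W w) = (w.map bU).prod := by rw [W, D.comm, psi_word]

/-- The sign of a pair of bits. -/
noncomputable def sgn (b : Bool × Bool) : E := if fc D.c b then δ else 1

theorem sgn_central (b : Bool × Bool) (x : E) : D.sgn b * x = x * D.sgn b := by
  rw [sgn]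
  split_ifs
  · exact D.central x
  · simp

theorem sgn_sq (b : Bool × Bool) : D.sgn b * D.sgn b = 1 := by
  rw [sgn]
  split_ifs
  · exact D.sq
  · simp

theorem W_rel {b : Bool × Bool} {u w : List ℕ} (h : relB' b (u ++ w.reverse) = true) : D.W u = D.sgn b * D.W w := by
  have e := D.rel b _ h
  change D.W (u ++ w.reverse) = _ at e
  rw [W_append, W_reverse, mul_inv_eq_iff_eq_mul] at e
  exact e

include D in
theorem σ_δ : σ δ = 1 := (D.ker δ).2 (Or.inr rfl)

theorem fcF : fc D.c (false, false) = false := by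
  have hc := D.hc
  rcases D.c with _ | _ | _ | n <;> first | rfl | omega

/-- The ten generators. -/
noncomputable def eb : ℕ → E
  | 0 => δ
  | i + 1 => D.W (bw i)

theorem bw_pal (i : ℕ) : lettB (bw i) = true ∧ (bw i).reverse = bw i := by
  have h := List.all_eq_true.1 pal_ok (idxB.getD i 0) (List.mem_range.2 (idx_lt i))
  simp only [Bool.and_eq_true, beq_iff_eq] at h
  exact h

theorem eb_sq (i : ℕ) : D.eb i * D.eb i = 1 := by
  rcases i with _ | i
  · exact D.sq
  · have e := D.W_reverse (bw i)
    rw [(bw_pal i).2] at e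
    show D.W (bw i) * D.W (bw i) = 1
    nth_rw 1 [e]
    exact inv_mul_cancel _

theorem eb_comm {i k : ℕ} (hi : i < 10) (hk : k < 10) : D.eb i * D.eb k = D.eb k * D.eb i := by
  have main : ∀ a b, b < a → a < 9 → D.W (bw a) * D.W (bw b) = D.W (bw b) * D.W (bw a) := by
    intro a b hba ha
    have h := List.all_eq_true.1 (List.all_eq_true.1 comm_ok a (List.mem_range.2 ha)) b (List.mem_range.2 hba)
    have e := D.rel _ _ h
    change D.W _ = _ at e
    rw [D.fcF, W_append, W_append, W_append] at e
    have sqa : D.W (bw a) * D.W (bw a) = 1 := D.eb_sq (a + 1)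
    have sqb : D.W (bw b) * D.W (bw b) = 1 := D.eb_sq (b + 1)
    simp only [Bool.false_eq_true, if_false] at e
    calc D.W (bw a) * D.W (bw b)
        = D.W (bw a) * D.W (bw b) * (D.W (bw a) * ((D.W (bw b) * D.W (bw b))) * D.W (bw a)) := by
          rw [sqb, mul_one, sqa, mul_one]
      _ = (D.W (bw a) * D.W (bw b) * D.W (bw a) * D.W (bw b)) * (D.W (bw b) * D.W (bw a)) := by
          simp only [mul_assoc]
      _ = _ := by rw [e, one_mul]
  rcases i with _ | i
  · exact D.central _
  rcases k with _ | k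
  · exact (D.central _).symm
  rcases lt_trichotomy i k with h | rfl | h
  · exact (main k i h (by omega)).symm
  · rfl
  · exact main i k h (by omega)

/-- The element of a vector. -/
noncomputable def ev (v : ℕ) : E := ((List.range 10).map fun i => if v.testBit i then D.eb i else 1).prod

theorem ev_xor (v w : ℕ) : D.ev (v ^^^ w) = D.ev v * D.ev w := by
  simp only [ev, Nat.testBit_xor]
  exact prod_xor D.eb D.eb_sq _ (fun i hi k hk => D.eb_comm (List.mem_range.1 hi) (List.mem_range.1 hk)) _ _

theorem ev_zero : D.ev 0 = 1 := by simp [ev, List.prod_eq_one]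

theorem ev_sq (v : ℕ) : D.ev v * D.ev v = 1 := by rw [← ev_xor, Nat.xor_self, ev_zero]

theorem ev_comm (v w : ℕ) : D.ev v * D.ev w = D.ev w * D.ev v := by rw [← ev_xor, ← ev_xor, Nat.xor_comm]

theorem ev_inv (v : ℕ) : (D.ev v)⁻¹ = D.ev v := inv_eq_of_mul_eq_one_right (D.ev_sq v)

theorem ev_one : D.ev 1 = δ := by
  simp only [ev, List.range_succ_eq_map, List.range_zero, List.map_cons, List.map_nil, List.prod_cons, List.prod_nil]
  simp [eb, Nat.testBit_succ]

theorem ev_two_mul (m : ℕ) : D.ev (2 * m) = D.W (bword m) := by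
  have hw : ∀ L : List ℕ, D.W (L.flatMap fun i => if m.testBit i then bw i else []) =
      (L.map fun i => if (2 * m).testBit (i + 1) then D.eb (i + 1) else 1).prod := by
    intro L
    induction L with
    | nil => simp [W_nil]
    | cons i L ih =>
      rw [List.flatMap_cons, W_append, ih, List.map_cons, List.prod_cons, Nat.testBit_succ,
        Nat.mul_div_cancel_left _ (by norm_num : 0 < 2)]
      congr 1
      split_ifs
      · rfl
      · exact D.W_nil
  rw [bword, hw, ev, show (10 : ℕ) = 9 + 1 from rfl, List.range_succ_eq_map, List.map_cons, List.prod_cons,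
    List.map_map, Nat.testBit_zero]
  simp [Function.comp_def]

theorem two_mul_xor_one (m : ℕ) : 2 * m ^^^ 1 = 2 * m + 1 := by
  refine Nat.eq_of_testBit_eq fun i => ?_
  rcases i with _ | i
  · simp [Nat.testBit_zero, Nat.testBit_xor]
  · rw [Nat.testBit_xor]
    simp only [Nat.testBit_succ]
    rw [show (2 * m + 1) / 2 = m by omega, show 2 * m / 2 = m by omega, show (1 : ℕ) / 2 = 0 by rfl]
    simp

theorem ev_colV (e : ℕ × Bool × Bool) : D.ev (colV D.c e) = D.sgn e.2 * D.W (bword e.1) := by
  rw [colV, sgn]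
  split_ifs
  · rw [← two_mul_xor_one, ev_xor, ev_one, ev_two_mul, D.central]
  · rw [Nat.add_zero, ev_two_mul, one_mul]

theorem colV_lt {e : ℕ × Bool × Bool} (h : e.1 < 512) (c : ℕ) : colV c e < 1024 := by
  rw [colV]; split_ifs <;> omega

/-- The lifted transvection at a point. -/
noncomputable def PT (j : ℕ) : E := D.W (pW.getD j [])

theorem PT_eq {j : ℕ} (hj : j < 21) : D.PT j = D.ev (ptV D.c j) ∧ ptV D.c j < 1024 := by
  have h := List.all_eq_true.1 pv_ok j (List.mem_range.2 hj)
  simp only [Bool.and_eq_true, Nat.blt_eq] at h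
  refine ⟨?_, colV_lt h.2 _⟩
  rw [PT, D.W_rel h.1, ptV, ev_colV]

theorem PT_sq {j : ℕ} (hj : j < 21) : D.PT j * D.PT j = 1 := by rw [(D.PT_eq hj).1, ev_sq]

/-- The value of a product of generators. -/
noncomputable def GW (L : List ℕ) : E := D.W (gword L)

theorem genM_facts {g : ℕ} (hg : g < 5) : (genM D.c g).length = 10 ∧ ∀ x ∈ genM D.c g, x < 1024 := by
  obtain ⟨h1, h2⟩ := (len_ok D.c D.hc).1 g hg
  exact ⟨h1, fun x hx => by simpa using List.all_eq_true.1 h2 x hx⟩

theorem conj_gen {g : ℕ} (hg : g < 5) {v : ℕ} (hv : v < 1024) :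
    D.W (gW.getD g []) * D.ev v * (D.W (gW.getD g []))⁻¹ = D.ev (app (genM D.c g) v) := by
  set G := D.W (gW.getD g []) with hG
  refine bit_induction (P := fun v => G * D.ev v * G⁻¹ = D.ev (app (genM D.c g) v)) ?_ ?_ v (n := 10) hv
  · simp [ev_zero, app_zero]
  intro u i hi ih
  rw [app_xor, ev_xor, ev_xor, ← ih]
  have key : G * D.ev (2 ^ i) * G⁻¹ = D.ev (app (genM D.c g) (2 ^ i)) := by
    rw [app_pow]
    rcases i with _ | i
    · rw [pow_zero, ev_one, show (genM D.c g).getD 0 0 = 1 from rfl, ev_one, ← D.central, mul_inv_cancel_right]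
    · have h := List.all_eq_true.1 gv_ok g (List.mem_range.2 hg)
      rw [Bool.and_eq_true] at h
      have h2 := List.all_eq_true.1 h.2 i (List.mem_range.2 (by omega))
      simp only [Bool.and_eq_true, Nat.blt_eq] at h2
      have hlen := (genM_facts D hg).1
      have e : (genM D.c g).getD (i + 1) 0 = colV D.c ((gV.getD g []).getD i (0, false, false)) := by
        simp only [genM, List.getD_cons_succ]
        simp only [genM, List.length_cons, List.length_map] at hlen
        rw [List.getD_eq_getElem _ _ (by rw [List.length_map]; omega), List.getElem_map,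
          List.getD_eq_getElem (gV.getD g []) _ (by omega)]
      rw [e, ev_colV, ← D.W_rel h2.1]
      have hev : D.ev (2 ^ (i + 1)) = D.W (bw i) := by
        rw [pow_succ', ev_two_mul]
        show D.W (bword (2 ^ i)) = _
        have hb := (basis_ok i (by omega)).2
        have hi9 : i < 9 := by omega
        rw [bword_pow hi9]
      rw [hev, W_append, W_append, W_reverse, hG]
  rw [show G * (D.ev u * D.ev (2 ^ i)) * G⁻¹ = (G * D.ev u * G⁻¹) * (G * D.ev (2 ^ i) * G⁻¹) by group, key]

theorem app_gen_lt {g : ℕ} (hg : g < 5) (v : ℕ) : app (genM D.c g) v < 1024 := app_lt (genM_facts D hg).2 v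

theorem GW_cons (g : ℕ) (L : List ℕ) : D.GW (g :: L) = D.W (gW.getD g []) * D.GW L := by
  rw [GW, GW, gword, gword, List.flatMap_cons, W_append]

theorem app_idM {v : ℕ} (hv : v < 1024) : app idM v = v := by
  refine bit_induction (P := fun v => app idM v = v) (app_zero _) (fun u i hi ih => ?_) v (n := 10) hv
  rw [app_xor, ih, app_pow]
  congr 1
  interval_cases i <;> rfl

theorem conj_word : ∀ {L : List ℕ}, (∀ g ∈ L, g < 5) → ∀ {v : ℕ}, v < 1024 →
    D.GW L * D.ev v * (D.GW L)⁻¹ = D.ev (app (wordM D.c L) v) ∧ app (wordM D.c L) v < 1024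
  | [], _, v, hv => by simp [GW, gword, W_nil, wordM, app_idM hv, hv]
  | g :: L, h, v, hv => by
    obtain ⟨e, hlt⟩ := conj_word (fun k hk => h k (List.mem_cons_of_mem _ hk)) hv (L := L)
    have hg := h g List.mem_cons_self
    rw [wordM, app_cmp]
    refine ⟨?_, D.app_gen_lt hg _⟩
    rw [GW_cons, ← D.conj_gen hg hlt, ← e]
    group

/-- A property of images is constant on orbits of the generators. -/
theorem orbit_prop {P : E → Prop} (hP : ∀ (x g : E), P x ↔ P (g * x * g⁻¹)) {v : ℕ} (h1 : 1 ≤ v) (h2 : v < 1024) :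
    P (D.ev v) ↔ P (D.ev (reps.getD (lab D.c v) 0)) :=
  orbit_iff D.hc (P := fun u => P (D.ev u)) (fun g hg u hu => by rw [hP (D.ev u), D.conj_gen hg hu]) h1 h2

theorem not_one {m : ℕ} (hm : m ∈ [1, 3, 19]) : σ (D.W (bword m)) ≠ 1 := by
  intro e
  have h := List.all_eq_true.1 rep_ok m hm
  simp only [Bool.and_eq_true, Bool.not_eq_true'] at h
  rw [σ_W] at e
  rw [oneW_of_prod h.1 e] at h
  exact Bool.noConfusion h.2

theorem σ_ev_div (v : ℕ) : σ (D.ev v) = σ (D.W (bword (v / 2))) := by
  rcases Nat.mod_two_eq_zero_or_one v with h | h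
  · rw [show v = 2 * (v / 2) by omega, ev_two_mul, Nat.mul_div_cancel_left _ (by norm_num : 0 < 2)]
  · conv_lhs => rw [show v = 2 * (v / 2) + 1 by omega, ← two_mul_xor_one, ev_xor, ev_one, map_mul, D.σ_δ,
      mul_one, ev_two_mul]

theorem lab_cases {v : ℕ} (h1 : 2 ≤ v) (h2 : v < 1024) : 1 ≤ lab D.c v ∧ lab D.c v ≤ 5 := by
  have := lab_ok D.c D.hc v h2
  exact ⟨by rcases Nat.eq_zero_or_pos (lab D.c v) with e | e
            · exact absurd (this.1 e) (by omega)
            · exact e, this.2 (by omega)⟩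

theorem σ_ev_ne {v : ℕ} (h1 : 2 ≤ v) (h2 : v < 1024) : σ (D.ev v) ≠ 1 := by
  intro h
  have hr := (D.orbit_prop (P := fun x => σ x = 1) (fun x g => by
    rw [map_mul, map_mul, map_inv]
    exact ⟨fun e => by rw [e]; simp, fun e => by simpa using e⟩) (v := v) (by omega) h2).1 h
  obtain ⟨l1, l5⟩ := D.lab_cases h1 h2
  rw [σ_ev_div] at hr
  interval_cases lab D.c v <;> exact D.not_one (by decide) hr

theorem σ_ev_eq_one {v : ℕ} (hv : v < 1024) (h : σ (D.ev v) = 1) : v = 0 ∨ v = 1 := by
  by_contra hne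
  exact D.σ_ev_ne (by omega) hv h

theorem ev_inj {v w : ℕ} (hv : v < 1024) (hw : w < 1024) (h : D.ev v = D.ev w) : v = w := by
  have h1 : D.ev (v ^^^ w) = 1 := by rw [ev_xor, h, ev_sq]
  have hlt : v ^^^ w < 1024 := Nat.xor_lt_two_pow (n := 10) hv hw
  rcases D.σ_ev_eq_one hlt (by rw [h1, map_one]) with e | e
  · exact Nat.xor_eq_zero_iff.1 e
  · rw [e, ev_one] at h1
    exact absurd h1 D.ne

end Mod

end CfsgLib.Recog.UsixMult.Plane
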