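import Cfsg.Agent.Lib.Recog.UsixMult.Plane.Fusion

/-!
# The 22 conjugates of the involution generate the module

Owner: helper6.
-/

set_option autoImplicit false
set_option maxRecDepth 20000
set_option Elab.async false

namespace CfsgLib.Recog.UsixMult.Plane

open Cfsg CfsgLib.Recog.SporBound.Fi22U6 CfsgLib.Recog.UsixMult

/-- A union of orbits of size 22 meets every pair over a unit vector. -/
def genB (c k : ℕ) : Bool :=
  !Nat.beq (size c k) 22 || (List.range 9).all fun i => inS c k (2 ^ (i + 1)) || inS c k (2 ^ (i + 1) + 1)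

theorem gen_ok : ∀ c < 3, ∀ k < 32, genB c k = true := by decide +kernel

namespace Mod

variable {G : Type*} [Group G] {d : G} {σ : ↥(Subgroup.centralizer ({d} : Set G)) →* U0}
  {δ : ↥(Subgroup.centralizer ({d} : Set G))} (D : Mod σ δ) [Finite G] (hδ : (δ : G) = d)

include hδ in
theorem closure_eq_AG (hnwc : ∃ g : G, g * d * g⁻¹ ∈ Subgroup.centralizer ({d} : Set G) ∧ g * d * g⁻¹ ≠ d) :
    Subgroup.closure {x : G | x ∈ D.AG ∧ IsConj d x} = D.AG := by
  obtain ⟨k, hk, hS, h22⟩ := D.classify_22 hδ hnwc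
  refine le_antisymm ((Subgroup.closure_le _).2 fun x hx => hx.1) fun x hx => ?_
  set K := Subgroup.closure {x : G | x ∈ D.AG ∧ IsConj d x}
  have hone : D.evG 1 ∈ K := Subgroup.subset_closure ⟨D.evG_mem (by norm_num), by rw [D.evG_one hδ]⟩
  have hgen := gen_ok D.c D.hc k hk
  rw [genB, h22, Nat.beq_refl, Bool.not_true, Bool.false_or, List.all_eq_true] at hgen
  have hbit : ∀ i < 10, D.evG (2 ^ i) ∈ K := by
    intro i hi
    rcases i with _ | i
    · exact hone
    have h := hgen i (List.mem_range.2 (by omega))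
    have hi9 : i < 9 := by omega
    have hlt : 2 ^ (i + 1) + 1 < 1024 := by interval_cases i <;> norm_num
    rw [Bool.or_eq_true] at h
    rcases h with h | h
    · exact Subgroup.subset_closure ⟨D.evG_mem (by omega), (hS _ (by omega)).1 h⟩
    · have h1 : D.evG (2 ^ (i + 1) + 1) ∈ K := Subgroup.subset_closure ⟨D.evG_mem hlt, (hS _ hlt).1 h⟩
      rw [pow_succ', ← two_mul_xor_one (2 ^ i), D.evG_xor, ← pow_succ'] at h1
      simpa using mul_mem h1 (inv_mem hone)
  obtain ⟨v, hv, rfl⟩ := D.mem_AG.1 hx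
  refine bit_induction (P := fun v => D.evG v ∈ K) ?_ (fun u i hi hu => ?_) v (n := 10) hv
  · rw [evG, D.ev_zero]; exact one_mem K
  · rw [D.evG_xor]; exact mul_mem hu (hbit i hi)

end Mod

end CfsgLib.Recog.UsixMult.Plane
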