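import Cfsg.Agent.Lib.Recog.UsixMult.Plane.Perms
import Cfsg.Prelude.Def_Transfer

/-!
# Elementary abelian subgroups and involutions of a double cover of PSU(6, 2)

Every elementary abelian subgroup of order 2^10 is conjugate to the module, and every involution is conjugate
into it (owner: helper6).
-/

set_option autoImplicit false
set_option maxRecDepth 20000

namespace CfsgLib.Recog.UsixMult.Plane

open Cfsg CfsgLib.Recog.SporBound CfsgLib.Recog.SporBound.Fi22U6 CfsgLib.Recog.UsixMult CfsgLib.ThreeTrans.CosetIndex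

variable {E : Type*} [Group E] {σ : E →* U0} {δ : E} (D : Mod σ δ)

namespace Mod

/-- The fixed vectors of one of the sixty-four. -/
def fixSet (c k : ℕ) : Finset ℕ := (Finset.range 1024).filter fun v => app (uM c k) v = v


theorem fixSet_card (c k : ℕ) : (fixSet c k).card = fixCount c k := by
  rw [fixSet, fixCount, List.countP_eq_length_filter, ← List.toFinset_card_of_nodup
    (List.nodup_range.filter _)]
  congr 1
  ext v
  simp

theorem fixMask_bit (c k v : ℕ) : (fixMask c k).testBit v = true ↔ v ∈ fixSet c k := by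
  have : ∀ L : List ℕ, (L.foldr (fun v m => if Nat.beq (app (uM c k) v) v then Nat.lor m (2 ^ v) else m) 0).testBit v
      = true ↔ v ∈ L ∧ app (uM c k) v = v := by
    intro L
    induction L with
    | nil => simp
    | cons x L ih =>
      rw [List.foldr_cons]
      by_cases hx : app (uM c k) x = x
      · rw [if_pos (by simpa using hx)]
        show (_ ||| 2 ^ x).testBit v = true ↔ _
        rw [Nat.testBit_or, Nat.testBit_two_pow, Bool.or_eq_true, decide_eq_true_eq, ih, List.mem_cons]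
        exact ⟨fun h => h.elim (fun h => ⟨Or.inr h.1, h.2⟩) (fun e => ⟨Or.inl e.symm, e ▸ hx⟩),
          fun h => h.1.elim (fun e => Or.inr e.symm) (fun m => Or.inl ⟨m, h.2⟩)⟩
      · rw [if_neg (by simpa using hx), ih, List.mem_cons]
        exact ⟨fun h => ⟨Or.inr h.1, h.2⟩, fun h => h.1.elim (fun e => absurd (e ▸ h.2) hx) (fun m => ⟨m, h.2⟩)⟩
  rw [fixMask, this, fixSet, Finset.mem_filter, List.mem_range, Finset.mem_range]

theorem inter_lt {c k l : ℕ} (hc : c < 3) (hk : k ∈ invKeys) (hl : l ∈ invKeys) (hkl : k ≠ l) :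
    (fixSet c k ∩ fixSet c l).card < 64 := by
  obtain ⟨hcount, hnd⟩ := fix_ok c hc
  have ck : (fixSet c k).card = 64 := (fixSet_card c k).trans (hcount k hk)
  have cl : (fixSet c l).card = 64 := (fixSet_card c l).trans (hcount l hl)
  by_contra hge
  have e1 : fixSet c k ∩ fixSet c l = fixSet c k :=
    Finset.eq_of_subset_of_card_le Finset.inter_subset_left (by omega)
  have e2 : fixSet c k ∩ fixSet c l = fixSet c l :=
    Finset.eq_of_subset_of_card_le Finset.inter_subset_right (by omega)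
  refine hkl (List.inj_on_of_nodup_map hnd hk hl (Nat.eq_of_testBit_eq fun v => ?_))
  rw [Bool.eq_iff_iff, fixMask_bit, fixMask_bit, ← e1, e2]

theorem key_of_SS (n : D.SS) : ∃ k < 64, ∀ v < 1024, (n : E) * D.ev v * (n : E)⁻¹ = D.ev (app (uM D.c k) v) := by
  obtain ⟨k, hk, e⟩ := D.mem_UP.1 (D.sHom n).2
  exact ⟨k, hk, fun v hv => by rw [D.sHom_spec n ⟨v, hv⟩, e]⟩

theorem key_sq {n : E} {k : ℕ} (hk : k < 64) (h : ∀ v < 1024, n * D.ev v * n⁻¹ = D.ev (app (uM D.c k) v))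
    (hn : n * n ∈ D.AA) : k = 0 ∨ k ∈ invKeys := by
  refine inv_ok D.c D.hc k hk (map_ext (by rw [cmp_len, uM, wordM_len]) (by simp [idM]) fun v hv => ?_)
  rw [app_idM hv, app_cmp]
  refine D.ev_inj (D.uM_lt k (D.uM_lt k hv)) hv ?_
  rw [← h _ (D.uM_lt k hv), ← h v hv]
  obtain ⟨w, hw, e⟩ := hn
  calc n * (n * D.ev v * n⁻¹) * n⁻¹ = (n * n) * D.ev v * (n * n)⁻¹ := by group
    _ = _ := by rw [← e, D.ev_comm, mul_inv_cancel_right]

theorem key_zero {n : E} (h : ∀ v < 1024, n * D.ev v * n⁻¹ = D.ev (app (uM D.c 0) v)) : n ∈ D.AA :=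
  D.self_centralizing fun v hv => by rw [h v hv, (next_ok D.c D.hc).1, app_idM hv]

/-- An elementary abelian 2-subgroup of the Sylow subgroup of order at least 1024 is the module. -/
theorem eq_AA {F : Subgroup E} (hF : Cfsg.IsElementaryAbelian 2 F) (hS : F ≤ D.SS) (hcard : 1024 ≤ Nat.card F) :
    F = D.AA := by
  classical
  haveI := D.finite
  have hsq : ∀ x ∈ F, x * x = 1 := fun x hx => by rw [← pow_two]; exact hF.2 x hx
  have hcom : ∀ x ∈ F, ∀ y ∈ F, x * y = y * x := fun x hx y hy =>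
    congrArg Subtype.val (hF.1.is_comm.comm (⟨x, hx⟩ : F) ⟨y, hy⟩)
  choose k hk hke using fun x : F => D.key_of_SS ⟨x, hS x.2⟩
  let φ : F →* D.UP := D.sHom.comp (Subgroup.inclusion hS)
  have hker : ∀ x : F, φ x = 1 ↔ (x : E) ∈ D.AA := fun x => by
    rw [← MonoidHom.mem_ker, ← MonoidHom.comap_ker, D.sHom_ker]; rfl
  have hmul : Nat.card φ.range * Nat.card φ.ker = Nat.card F := by
    rw [← Subgroup.index_ker]; exact φ.ker.index_mul_card
  have hK : ∀ x : F, k x = 0 ∨ k x ∈ invKeys := fun x => by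
    refine D.key_sq (hk x) (hke x) ?_
    rw [hsq x x.2]; exact one_mem _
  have hzero : ∀ x : F, k x = 0 ↔ φ x = 1 := fun x => by
    rw [hker]
    refine ⟨fun h => D.key_zero (h ▸ hke x), fun ⟨w, hw, e⟩ => D.key_unique (hk x) (by norm_num) fun v hv => ?_⟩
    refine D.ev_inj (D.uM_lt _ hv) (D.uM_lt _ hv) ?_
    rw [← hke x v hv, (next_ok D.c D.hc).1, app_idM hv, ← e, D.ev_comm, mul_inv_cancel_right]
  have hkeq : ∀ x y : F, k x = k y → φ x = φ y := fun x y h => Subtype.ext (D.act_unique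
    (D.sHom_spec ⟨x, hS x.2⟩) fun v => by
      show (x : E) * D.ev v * (x : E)⁻¹ = _
      rw [hke x v v.2, h, ← hke y v v.2]
      exact D.sHom_spec ⟨y, hS y.2⟩ v)
  have hfix : ∀ (x : F) (z : φ.ker), ∃ v ∈ fixSet D.c (k x), D.ev v = ((z : F) : E) := fun x z => by
    obtain ⟨v, hv, e⟩ := (hker z).1 z.2
    refine ⟨v, Finset.mem_filter.2 ⟨Finset.mem_range.2 hv, D.ev_inj (D.uM_lt _ hv) hv ?_⟩, e⟩
    rw [← hke x v hv, e, hcom x x.2 z z.1.2, mul_inv_cancel_right]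
  have hr : Nat.card φ.range ≤ 28 ∧ Nat.card φ.range ∣ 64 := by
    refine ⟨?_, D.card_UP ▸ φ.range.card_subgroup_dvd_card⟩
    let pick : φ.range → {m // m ∈ (0 :: invKeys).toFinset} := fun y =>
      ⟨k y.2.choose, by rcases hK y.2.choose with h | h <;> simp [h]⟩
    have hinj : Function.Injective pick := fun y z h => Subtype.ext (by
      rw [← y.2.choose_spec, ← z.2.choose_spec]; exact hkeq _ _ (Subtype.ext_iff.1 h))
    refine (Nat.card_le_card_of_injective pick hinj).trans ?_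
    rw [Nat.card_eq_finsetCard]
    exact (List.toFinset_card_le _).trans (by simp [inv_keys.1])
  have hall : φ.range = ⊥ := by
    by_contra hne
    obtain ⟨⟨_, x, rfl⟩, hx⟩ : ∃ y : φ.range, y ≠ 1 := by
      rw [← nontrivial_iff_exists_ne]
      exact (Subgroup.nontrivial_iff_ne_bot _).2 hne
    have hx0 : k x ∈ invKeys := (hK x).resolve_left fun h => hx (Subtype.ext ((hzero x).1 h))
    by_cases htwo : ∃ y : F, k y ≠ 0 ∧ k y ≠ k x
    · obtain ⟨y, hy0, hyx⟩ := htwo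
      have hy1 : k y ∈ invKeys := (hK y).resolve_left hy0
      choose g hg hge using fun z : φ.ker => hfix x z
      have hmem : ∀ z, g z ∈ fixSet D.c (k x) ∩ fixSet D.c (k y) := fun z => by
        obtain ⟨v, hv, e⟩ := hfix y z
        have h1 := Finset.mem_range.1 (Finset.mem_filter.1 (hg z)).1
        have h2 := Finset.mem_range.1 (Finset.mem_filter.1 hv).1
        have e' := D.ev_inj h2 h1 (e.trans (hge z).symm)
        exact Finset.mem_inter.2 ⟨hg z, e' ▸ hv⟩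
      have hle : Nat.card φ.ker ≤ (fixSet D.c (k x) ∩ fixSet D.c (k y)).card := by
        rw [← Nat.card_eq_finsetCard]
        exact Nat.card_le_card_of_injective (fun z => ⟨g z, hmem z⟩) fun a b h => Subtype.ext (Subtype.ext (by
          rw [← hge a, ← hge b, show g a = g b from Subtype.ext_iff.1 h]))
      have hlt := inter_lt D.hc hx0 hy1 hyx.symm
      have hr16 : Nat.card φ.range ≤ 16 := by
        have := hr.2
        have h28 := hr.1
        have key : ∀ r < 29, r ∣ 64 → r ≤ 16 := by decide +kernel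
        exact key _ (by omega) this
      have : Nat.card φ.range * Nat.card φ.ker ≤ 16 * 63 := Nat.mul_le_mul hr16 (by omega)
      omega
    · push_neg at htwo
      have hle : Nat.card φ.ker ≤ 64 := by
        choose g hg hge using fun z : φ.ker => hfix x z
        rw [← (fix_ok D.c D.hc).1 _ hx0, ← fixSet_card, ← Nat.card_eq_finsetCard]
        exact Nat.card_le_card_of_injective (fun z => ⟨g z, hg z⟩) fun a b h => Subtype.ext (Subtype.ext (by
          rw [← hge a, ← hge b, show g a = g b from Subtype.ext_iff.1 h]))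
      have h2 : Nat.card φ.range ≤ 2 := by
        refine (Nat.card_le_card_of_injective (fun y : φ.range => (decide (k y.2.choose = 0) : Bool))
          fun y z h => Subtype.ext ?_).trans (by simp)
        rw [← y.2.choose_spec, ← z.2.choose_spec]
        simp only [decide_eq_decide] at h
        refine hkeq _ _ ?_
        by_cases hy : k y.2.choose = 0
        · rw [hy, h.1 hy]
        · rw [htwo _ hy, htwo _ fun e => hy (h.2 e)]
      have : Nat.card φ.range * Nat.card φ.ker ≤ 2 * 64 := Nat.mul_le_mul h2 hle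
      omega
  refine Subgroup.eq_of_le_of_card_ge (fun x hx => (hker ⟨x, hx⟩).1 ?_) (by rw [D.card_AA]; exact hcard)
  exact Subgroup.mem_bot.1 (hall ▸ ⟨⟨x, hx⟩, rfl⟩)

/-- Every elementary abelian 2-subgroup has order at most 1024, with equality only for conjugates of the module. -/
theorem exists_conj_AA {F : Subgroup E} (hF : Cfsg.IsElementaryAbelian 2 F) (hcard : 1024 ≤ Nat.card F) :
    ∃ g : E, F.map (MulAut.conj g).toMonoidHom = D.AA := by
  obtain ⟨g, hg⟩ := D.conj_into_SS (H := F) fun x => ⟨1, Subtype.ext (by simpa using hF.2 x x.2)⟩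
  refine ⟨g, D.eq_AA ⟨⟨⟨fun ⟨a, ha⟩ ⟨b, hb⟩ => Subtype.ext ?_⟩⟩, ?_⟩ ?_ ?_⟩
  · obtain ⟨x, hx, rfl⟩ := ha
    obtain ⟨y, hy, rfl⟩ := hb
    show _ * _ = _ * _
    rw [← map_mul, ← map_mul, show x * y = y * x from congrArg Subtype.val (hF.1.is_comm.comm (⟨x, hx⟩ : F) ⟨y, hy⟩)]
  · rintro _ ⟨x, hx, rfl⟩
    rw [← map_pow, hF.2 x hx, map_one]
  · rintro _ ⟨x, hx, rfl⟩
    exact hg x hx
  · rwa [Subgroup.card_map_of_injective (MulAut.conj g).injective]

theorem isElem_AA : Cfsg.IsElementaryAbelian 2 D.AA := by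
  refine ⟨⟨⟨fun ⟨a, ha⟩ ⟨b, hb⟩ => Subtype.ext ?_⟩⟩, ?_⟩
  · obtain ⟨v, -, rfl⟩ := ha
    obtain ⟨w, -, rfl⟩ := hb
    exact D.ev_comm v w
  · rintro _ ⟨v, -, rfl⟩
    rw [pow_two, D.ev_sq]

theorem inv_rep {k r m : ℕ} {g : List ℕ} (h : invB k (r, g, m) = true) :
    ∃ x : E, σ x * σ (D.GW (uL.getD k []) * D.ev (2 * r)) * (σ x)⁻¹ = σ (D.ev (2 * m)) ∧ m < 512 ∧ r < 512 := by
  simp only [invB, Bool.and_eq_true, Nat.blt_eq] at h
  obtain ⟨⟨⟨-, hr⟩, hm⟩, h4⟩ := h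
  refine ⟨D.W g, ?_, hm, hr⟩
  have e := oneW_prod h4
  rw [← D.σ_W, W_append, map_mul, W_append, map_mul, W_append, map_mul, W_append, map_mul, W_reverse, map_inv,
    W_reverse, map_inv, mul_inv_eq_one] at e
  rw [ev_two_mul, ev_two_mul, map_mul, ← e]
  rfl

theorem two_mul_xor (a b : ℕ) : 2 * (a ^^^ b) = 2 * a ^^^ 2 * b := by
  refine Nat.eq_of_testBit_eq fun i => ?_
  rcases i with _ | i
  · simp [Nat.testBit_zero, Nat.testBit_xor]
  · simp only [Nat.testBit_succ, xor_div_two, Nat.mul_div_cancel_left _ (by norm_num : 0 < 2)]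

theorem class_lt : invD.all (fun e => e.2.2.2.all (Nat.blt · 512)) = true := by decide +kernel

theorem σ_half (v : ℕ) : σ (D.ev (2 * (v / 2))) = σ (D.ev v) := by
  rw [σ_ev_div, D.σ_ev_div v, Nat.mul_div_cancel_left _ (by norm_num : 0 < 2)]

theorem half_eq {u v : ℕ} (hu : u < 1024) (hv : v < 1024) (h : σ (D.ev u) = σ (D.ev v)) : u / 2 = v / 2 := by
  have h1 : σ (D.ev (u ^^^ v)) = 1 := by rw [ev_xor, map_mul, h, ← map_mul, ev_sq, map_one]
  have h2 : (u ^^^ v) / 2 = 0 := by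
    rcases D.σ_ev_eq_one (Nat.xor_lt_two_pow (n := 10) hu hv) h1 with e | e <;> rw [e]
  rw [xor_div_two] at h2
  exact Nat.xor_eq_zero_iff.1 h2

/-- Every involution is conjugate into the module. -/
theorem involution_conj {y : E} (hy : y * y = 1) : ∃ g : E, g * y * g⁻¹ ∈ D.AA := by
  have hp : IsPGroup 2 (Subgroup.zpowers y) := by
    rintro ⟨z, i, rfl⟩
    refine ⟨1, Subtype.ext ?_⟩
    show (y ^ i) ^ 2 = 1
    rw [pow_two, ← (Commute.refl y).mul_zpow, hy, one_zpow]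
  obtain ⟨g, hg⟩ := D.conj_into_SS hp
  obtain ⟨y', hy'⟩ : ∃ y', y' = g * y * g⁻¹ := ⟨_, rfl⟩
  suffices h : ∃ g' : E, g' * y' * g'⁻¹ ∈ D.AA by
    obtain ⟨g', hg'⟩ := h
    refine ⟨g' * g, ?_⟩
    rw [hy'] at hg'
    rwa [show g' * g * y * (g' * g)⁻¹ = g' * (g * y * g⁻¹) * g'⁻¹ by group]
  have hy'S : y' ∈ D.SS := hy' ▸ hg y (Subgroup.mem_zpowers y)
  have hsq : y' * y' = 1 := by
    rw [hy', show g * y * g⁻¹ * (g * y * g⁻¹) = g * (y * y) * g⁻¹ by group, hy, mul_one, mul_inv_cancel]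
  obtain ⟨k, hk, hke⟩ := D.key_of_SS ⟨y', hy'S⟩
  replace hke : ∀ v < 1024, y' * D.ev v * y'⁻¹ = D.ev (app (uM D.c k) v) := hke
  rcases D.key_sq hk hke (by rw [hsq]; exact one_mem _) with rfl | hki
  · exact ⟨1, by simpa using D.key_zero hke⟩
  obtain ⟨⟨k', e1, e2, L⟩, hmem, rfl⟩ := List.mem_map.1 hki
  dsimp only at hke hk
  set Wk := D.GW (uL.getD k' [])
  have hW : ∀ v < 1024, Wk * D.ev v * Wk⁻¹ = D.ev (app (uM D.c k') v) := fun v hv => (D.conj_word (uL_five k') hv).1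
  have hb : Wk⁻¹ * y' ∈ D.AA := D.self_centralizing fun v hv => by
    rw [show Wk⁻¹ * y' * D.ev v * (Wk⁻¹ * y')⁻¹ = Wk⁻¹ * (y' * D.ev v * y'⁻¹) * Wk by group, hke v hv, ← hW v hv]
    group
  obtain ⟨b, hb1, hb2⟩ := hb
  have hy2 : y' = Wk * D.ev b := by rw [hb2, mul_inv_cancel_left]
  obtain ⟨w, hw⟩ : ∃ w, w = σ Wk := ⟨_, rfl⟩
  have hqq : ∀ v, σ (D.ev v) * σ (D.ev v) = 1 := fun v => by rw [← map_mul, D.ev_sq, map_one]
  have hcomm : ∀ u v, σ (D.ev u) * σ (D.ev v) = σ (D.ev v) * σ (D.ev u) := fun u v => by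
    rw [← map_mul, D.ev_comm, map_mul]
  have hconj : ∀ v < 1024, w * σ (D.ev v) * w⁻¹ = σ (D.ev (app (uM D.c k') v)) := fun v hv => by
    rw [← hW v hv, map_mul, map_mul, map_inv, hw]
  have hq1 : w * σ (D.ev b) * w = σ (D.ev b) := by
    have e : w * σ (D.ev b) * (w * σ (D.ev b)) = 1 := by rw [hw, ← map_mul, ← map_mul, ← hy2, hsq, map_one]
    calc w * σ (D.ev b) * w = w * σ (D.ev b) * w * (σ (D.ev b) * σ (D.ev b)) := by rw [hqq, mul_one]
      _ = w * σ (D.ev b) * (w * σ (D.ev b)) * σ (D.ev b) := by simp only [mul_assoc]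
      _ = _ := by rw [e, one_mul]
  have hinv := List.all_eq_true.1 invW_ok _ hmem
  rw [Bool.and_eq_true] at hinv
  obtain ⟨x1, hx1, hm1, hr1⟩ := D.inv_rep (r := e1.1) (g := e1.2.1) (m := e1.2.2) hinv.1
  obtain ⟨x2, hx2, hm2, hr2⟩ := D.inv_rep (r := e2.1) (g := e2.2.1) (m := e2.2.2) hinv.2
  have hr1q : w * σ (D.ev (2 * e1.1)) * w = σ (D.ev (2 * e1.1)) := by
    obtain ⟨z, hz⟩ : ∃ z, z = w * σ (D.ev (2 * e1.1)) := ⟨_, rfl⟩
    have e : z * z = 1 := by
      rw [map_mul, ← hw, ← hz] at hx1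
      have hz' : z = (σ x1)⁻¹ * σ (D.ev (2 * e1.2.2)) * σ x1 := by rw [← hx1]; group
      rw [hz', show (σ x1)⁻¹ * σ (D.ev (2 * e1.2.2)) * σ x1 * ((σ x1)⁻¹ * σ (D.ev (2 * e1.2.2)) * σ x1) =
        (σ x1)⁻¹ * (σ (D.ev (2 * e1.2.2)) * σ (D.ev (2 * e1.2.2))) * σ x1 by group, hqq, mul_one, inv_mul_cancel]
    rw [hz] at e
    calc w * σ (D.ev (2 * e1.1)) * w
        = w * σ (D.ev (2 * e1.1)) * w * (σ (D.ev (2 * e1.1)) * σ (D.ev (2 * e1.1))) := by rw [hqq, mul_one]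
      _ = w * σ (D.ev (2 * e1.1)) * (w * σ (D.ev (2 * e1.1))) * σ (D.ev (2 * e1.1)) := by simp only [mul_assoc]
      _ = _ := by rw [e, one_mul]
  obtain ⟨d, hd⟩ : ∃ d, d = b ^^^ 2 * e1.1 := ⟨_, rfl⟩
  have hdlt : d < 1024 := hd ▸ Nat.xor_lt_two_pow (n := 10) hb1 (by omega)
  have hfix : σ (D.ev (app (uM D.c k') d)) = σ (D.ev d) := by
    rw [← hconj d hdlt, hd, ev_xor, map_mul]
    calc w * (σ (D.ev b) * σ (D.ev (2 * e1.1))) * w⁻¹
        = (w * σ (D.ev b) * w) * (w⁻¹ * σ (D.ev (2 * e1.1)) * w⁻¹) := by group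
      _ = σ (D.ev b) * (w⁻¹ * (w * σ (D.ev (2 * e1.1)) * w) * w⁻¹) := by rw [hq1, hr1q]
      _ = _ := by group
  have hv : app (uM D.c k') (2 * (d / 2)) / 2 = d / 2 := by
    refine D.half_eq (D.uM_lt k' (by omega)) hdlt ?_
    rw [← hconj _ (by omega), D.σ_half, hconj d hdlt, hfix]
  have hall := List.all_eq_true.1 (List.all_eq_true.1 (class_ok D.c D.hc) _ hmem) (d / 2) (List.mem_range.2 (by omega))
  simp only [hv, Nat.beq_refl, Bool.not_true, Bool.false_or, List.any_map, List.any_eq_true, Function.comp_apply,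
    Bool.or_eq_true, Nat.beq_eq, Nat.xor_eq] at hall
  obtain ⟨w0, hw0, hx⟩ := hall
  have hw0' : w0 < 512 := by
    have h' := List.all_eq_true.1 (List.all_eq_true.1 class_lt _ hmem) w0 hw0
    simpa using h'
  have hd2 : d / 2 = b / 2 ^^^ e1.1 := by rw [hd, xor_div_two, Nat.mul_div_cancel_left _ (by norm_num : 0 < 2)]
  rw [hd2] at hx
  obtain ⟨x0, hx0⟩ : ∃ x0, x0 = app (uM D.c k') (2 * w0) / 2 ^^^ w0 := ⟨_, rfl⟩
  rw [← hx0] at hx
  have hcase : ∃ x r m, σ x * (w * σ (D.ev (2 * r))) * (σ x)⁻¹ = σ (D.ev (2 * m)) ∧ m < 512 ∧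
      b / 2 = x0 ^^^ r := by
    rcases hx with e | e
    · exact ⟨x1, e1.1, e1.2.2, by rw [hw, ← map_mul]; exact hx1, hm1, by
        rw [e, Nat.xor_assoc, Nat.xor_self, Nat.xor_zero]⟩
    · refine ⟨x2, e2.1, e2.2.2, by rw [hw, ← map_mul]; exact hx2, hm2, ?_⟩
      rw [e]
      simp [Nat.xor_assoc, Nat.xor_comm, Nat.xor_left_comm]
  obtain ⟨x, r, m, hxm, hm, hbr⟩ := hcase
  obtain ⟨s, hs⟩ : ∃ s, s = σ (D.ev (2 * w0)) := ⟨_, rfl⟩
  have hq : σ (D.ev b) = (w * s * w⁻¹) * s * σ (D.ev (2 * r)) := by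
    rw [← D.σ_half b, hbr, two_mul_xor, ev_xor, map_mul, hx0, hs, hconj _ (by omega), ← map_mul σ (D.ev _) (D.ev (2 * w0)),
      ← ev_xor, ← D.σ_half (_ ^^^ 2 * w0), xor_div_two, Nat.mul_div_cancel_left _ (by norm_num : 0 < 2)]
  have hs2 : w⁻¹ * s * w = w * s * w⁻¹ := by
    have hc : σ (D.ev b) * (w * s * w⁻¹) = (w * s * w⁻¹) * σ (D.ev b) := by
      rw [hs, hconj _ (by omega)]; exact hcomm _ _
    have hy'' : (w * σ (D.ev b))⁻¹ = w * σ (D.ev b) :=
      inv_eq_of_mul_eq_one_left (by rw [hw, ← map_mul, ← map_mul, ← hy2, hsq, map_one])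
    have hcs : σ (D.ev b) * s = s * σ (D.ev b) := by rw [hs]; exact hcomm _ _
    calc w⁻¹ * s * w = σ (D.ev b) * ((w * σ (D.ev b))⁻¹ * s * (w * σ (D.ev b))) * (σ (D.ev b))⁻¹ := by group
      _ = σ (D.ev b) * ((w * σ (D.ev b)) * s * (w * σ (D.ev b))⁻¹) * (σ (D.ev b))⁻¹ := by
          simp only [hy'']
      _ = σ (D.ev b) * (w * (σ (D.ev b) * s * (σ (D.ev b))⁻¹) * w⁻¹) * (σ (D.ev b))⁻¹ := by group
      _ = σ (D.ev b) * (w * s * w⁻¹) * (σ (D.ev b))⁻¹ := by rw [hcs, mul_inv_cancel_right]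
      _ = _ := by rw [hc, mul_inv_cancel_right]
  refine ⟨x * D.ev (2 * w0), D.mem_AA_of_σ (v := 2 * m) (by omega) ?_⟩
  rw [map_mul, map_mul, map_inv, map_mul, hy2, map_mul, ← hw, ← hs, hq, ← hxm]
  have hsi : s⁻¹ = s := by rw [hs, ← map_inv, D.ev_inv]
  have hsr : σ (D.ev (2 * r)) * s = s * σ (D.ev (2 * r)) := by rw [hs]; exact hcomm _ _
  rw [← hs2, mul_inv_rev, hsi]
  calc σ x * s * (w * (w⁻¹ * s * w * s * σ (D.ev (2 * r)))) * (s * (σ x)⁻¹)
      = σ x * (s * s) * w * (s * (σ (D.ev (2 * r)) * s)) * (σ x)⁻¹ := by group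
    _ = σ x * (s * s) * w * ((s * s) * σ (D.ev (2 * r))) * (σ x)⁻¹ := by rw [hsr]; simp only [mul_assoc]
    _ = _ := by rw [show s * s = 1 by rw [hs]; exact hqq _]; group

end Mod

end CfsgLib.Recog.UsixMult.Plane
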