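import Cfsg.Agent.Lib.Recog.UsixMult.Plane.Points

/-!
# The group induced on the module by the normaliser, and its Sylow 2-subgroup

Owner: helper6.
-/

set_option autoImplicit false
set_option maxRecDepth 20000

namespace CfsgLib.Recog.UsixMult.Plane

open Cfsg CfsgLib.Recog.SporBound CfsgLib.Recog.SporBound.Fi22U6 CfsgLib.Recog.UsixMult CfsgLib.ThreeTrans.CosetIndex
open scoped Matrix

/-- Permutations induced by conjugation on the values of a family. -/
def permGp {H : Type*} [Group H] (f : ℕ → H) : Subgroup (Equiv.Perm (Fin 1024)) where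
  carrier := {π | ∃ n : H, ∀ v : Fin 1024, n * f v * n⁻¹ = f (π v : ℕ)}
  one_mem' := ⟨1, fun v => by simp⟩
  mul_mem' := by
    rintro π ρ ⟨n, hn⟩ ⟨m, hm⟩
    refine ⟨n * m, fun v => ?_⟩
    rw [Equiv.Perm.mul_apply, ← hn, ← hm]
    group
  inv_mem' := by
    rintro π ⟨n, hn⟩
    refine ⟨n⁻¹, fun v => ?_⟩
    have e := hn (π⁻¹ v)
    simp only [Equiv.Perm.inv_def, Equiv.apply_symm_apply] at e
    rw [← e]
    group
    rfl

theorem exists_perm {H : Type*} [Group H] {f : ℕ → H} (hinj : ∀ v < 1024, ∀ w < 1024, f v = f w → v = w) {n : H}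
    (hn : ∀ v < 1024, ∃ w < 1024, n * f v * n⁻¹ = f w) :
    ∃ π : Equiv.Perm (Fin 1024), π ∈ permGp f ∧ ∀ v : Fin 1024, n * f v * n⁻¹ = f (π v : ℕ) := by
  choose w hw1 hw2 using hn
  let g : Fin 1024 → Fin 1024 := fun v => ⟨w v v.2, hw1 v v.2⟩
  have hg : Function.Injective g := fun a b h => by
    refine Fin.ext (hinj _ a.2 _ b.2 ?_)
    have e : n * f a * n⁻¹ = n * f b * n⁻¹ := by
      rw [hw2 a a.2, hw2 b b.2]; exact congrArg f (Fin.ext_iff.1 h)
    simpa using e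
  let π := Equiv.ofBijective g (Finite.injective_iff_bijective.1 hg)
  exact ⟨π, ⟨n, fun v => hw2 v v.2⟩, fun v => hw2 v v.2⟩

theorem map_ext {M M' : List ℕ} (h1 : M.length = 10) (h2 : M'.length = 10)
    (h : ∀ v < 1024, app M v = app M' v) : M = M' := by
  refine List.ext_getElem (by omega) fun i hi hi' => ?_
  have := h (2 ^ i) (lt_of_lt_of_le (Nat.pow_lt_pow_right (by norm_num) (by omega : i < 10)) le_rfl)
  rwa [app_pow, app_pow, List.getD_eq_getElem _ _ hi, List.getD_eq_getElem _ _ hi'] at this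

theorem uL_letters (k : ℕ) : ∀ g ∈ uL.getD k [], g < 4 := by
  intro g hg
  rcases Nat.lt_or_ge k uL.length with hk | hk
  · rw [List.getD_eq_getElem _ _ hk] at hg
    have := List.all_eq_true.1 (List.all_eq_true.1 uL_ok.2 _ (List.getElem_mem hk)) g hg
    simpa using this
  · rw [List.getD_eq_default _ _ hk] at hg
    exact absurd hg List.not_mem_nil

theorem cmp_len (A B : List ℕ) : (cmp A B).length = B.length := by simp [cmp]

theorem wordM_len (c : ℕ) : ∀ L : List ℕ, (wordM c L).length = 10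
  | [] => by simp [wordM, idM]
  | g :: L => by rw [wordM, cmp_len, wordM_len c L]

theorem pow_fact : (2 * 9196830720 : ℕ) = 2 ^ 16 * 280665 ∧ ¬ 2 ∣ 280665 := by norm_num

variable {E : Type*} [Group E] {σ : E →* U0} {δ : E} (D : Mod σ δ)

namespace Mod

theorem inj' : ∀ v < 1024, ∀ w < 1024, D.ev v = D.ev w → v = w := fun _ hv _ hw h => D.ev_inj hv hw h

include D in
theorem finite : Finite E := Finite.of_surjective D.Φ D.surj

theorem word_perm {L : List ℕ} (hL : ∀ g ∈ L, g < 5) :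
    ∃ π ∈ permGp D.ev, ∀ v : Fin 1024, (π v : ℕ) = app (wordM D.c L) v := by
  obtain ⟨π, hπ, hπ'⟩ := exists_perm D.inj' (n := D.GW L) fun v hv =>
    ⟨_, (D.conj_word hL hv).2, (D.conj_word hL hv).1⟩
  refine ⟨π, hπ, fun v => D.ev_inj (π v).2 (D.conj_word hL v.2).2 ?_⟩
  rw [← hπ', (D.conj_word hL v.2).1]

theorem uL_five (k : ℕ) : ∀ g ∈ uL.getD k [], g < 5 := fun g hg => (uL_letters k g hg).trans (by norm_num)

theorem uM_lt (k : ℕ) {v : ℕ} (hv : v < 1024) : app (uM D.c k) v < 1024 := (D.conj_word (uL_five k) hv).2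

theorem word_uM : ∀ {L : List ℕ}, (∀ g ∈ L, g < 4) → ∀ {l : ℕ}, l < 64 →
    ∃ m < 64, ∀ v < 1024, app (wordM D.c L) (app (uM D.c l) v) = app (uM D.c m) v
  | [], _, l, hl => ⟨l, hl, fun v hv => app_idM (D.uM_lt l hv)⟩
  | g :: L, h, l, hl => by
    obtain ⟨m, hm, e⟩ := word_uM (fun k hk => h k (List.mem_cons_of_mem _ hk)) hl (L := L)
    obtain ⟨h1, h2⟩ := (next_ok D.c D.hc).2 m hm g (h g List.mem_cons_self)
    exact ⟨_, h1, fun v hv => by rw [wordM, app_cmp, e v hv, ← app_cmp, h2]⟩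

/-- The Sylow 2-subgroup of the induced group. -/
def UP : Subgroup (Equiv.Perm (Fin 1024)) := Subgroup.closure
  {π | ∃ k < 64, ∀ v : Fin 1024, (π v : ℕ) = app (uM D.c k) v}

theorem mem_UP {π : Equiv.Perm (Fin 1024)} :
    π ∈ D.UP ↔ ∃ k < 64, ∀ v : Fin 1024, (π v : ℕ) = app (uM D.c k) v := by
  refine ⟨fun h => ?_, fun h => Subgroup.subset_closure h⟩
  have h' : π ∈ Submonoid.closure {π : Equiv.Perm (Fin 1024) | ∃ k < 64, ∀ v : Fin 1024, (π v : ℕ) = app (uM D.c k) v} := by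
    rwa [← Subgroup.closure_toSubmonoid_of_finite]
  induction h' using Submonoid.closure_induction with
  | mem x hx => exact hx
  | one => exact ⟨0, by norm_num, fun v => by rw [(next_ok D.c D.hc).1, app_idM v.2]; rfl⟩
  | mul x y hxm hym hx hy =>
    obtain ⟨k, hk, ek⟩ := hx (Subgroup.le_closure_toSubmonoid _ hxm)
    obtain ⟨l, hl, el⟩ := hy (Subgroup.le_closure_toSubmonoid _ hym)
    obtain ⟨m, hm, em⟩ := D.word_uM (uL_letters k) hl
    exact ⟨m, hm, fun v => by rw [Equiv.Perm.mul_apply, ek, el]; exact em v v.2⟩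

theorem key_unique {k l : ℕ} (hk : k < 64) (hl : l < 64) (h : ∀ v < 1024, app (uM D.c k) v = app (uM D.c l) v) :
    k = l := by
  have e := map_ext (wordM_len _ _) (wordM_len _ _) h
  have hnd := List.nodup_iff_injective_getElem.1 (distinct_ok D.c D.hc)
  have := @hnd ⟨k, by simpa using hk⟩ ⟨l, by simpa using hl⟩ (by simp only [List.getElem_map, List.getElem_range]; exact e)
  exact Fin.ext_iff.1 this

theorem card_UP : Nat.card D.UP = 64 := by
  have hex : ∀ k : Fin 64, ∃ π : D.UP, ∀ v : Fin 1024, ((π.1 v : Fin 1024) : ℕ) = app (uM D.c k) v := by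
    intro k
    obtain ⟨π, -, hπ⟩ := D.word_perm (uL_five k.1)
    exact ⟨⟨π, D.mem_UP.2 ⟨k, k.2, hπ⟩⟩, hπ⟩
  choose f hf using hex
  have hinj : Function.Injective f := fun k l h => Fin.ext (D.key_unique k.2 l.2 fun v hv => by
    rw [← hf k ⟨v, hv⟩, ← hf l ⟨v, hv⟩, h])
  have hsurj : Function.Surjective f := by
    rintro ⟨π, hπ⟩
    obtain ⟨k, hk, e⟩ := D.mem_UP.1 hπ
    exact ⟨⟨k, hk⟩, Subtype.ext (Equiv.ext fun v => Fin.ext ((hf ⟨k, hk⟩ v).trans (e v).symm))⟩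
  rw [← Nat.card_congr (Equiv.ofBijective f ⟨hinj, hsurj⟩), Nat.card_fin]

theorem UP_le : D.UP ≤ permGp D.ev := by
  intro π hπ
  obtain ⟨k, -, e⟩ := D.mem_UP.1 hπ
  obtain ⟨ρ, hρ, e'⟩ := D.word_perm (uL_five k)
  rwa [show π = ρ from Equiv.ext fun v => Fin.ext ((e v).trans (e' v).symm)]

theorem prime_dvd (i : ℕ) (hi : i < 3) : [3, 5, 7].getD i 0 ∣ Nat.card (permGp D.ev) := by
  obtain ⟨h1, h2, h3⟩ := ord_ok D.c D.hc i hi
  set L := ordW.getD i []
  set M := wordM D.c L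
  obtain ⟨π, hπ, e⟩ := D.word_perm (L := L) fun g hg => by simpa using List.all_eq_true.1 h3 g hg
  have hpow : ∀ (j : ℕ) (v : Fin 1024), (((π ^ j) v : Fin 1024) : ℕ) = app ((cmp M)^[j] idM) v := by
    intro j
    induction j with
    | zero => intro v; simp [app_idM v.2]
    | succ j ih => intro v; rw [pow_succ', Equiv.Perm.mul_apply, e, ih, Function.iterate_succ_apply', app_cmp]
  have hp : π ^ ([3, 5, 7].getD i 0) = 1 := Equiv.ext fun v => Fin.ext (by
    rw [hpow, h1, app_idM v.2]; rfl)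
  have hne : π ≠ 1 := fun h => h2 (map_ext (wordM_len _ _) (by simp [idM]) fun v hv => by
    rw [← e ⟨v, hv⟩, h, app_idM hv]; rfl)
  have : Fact ([3, 5, 7].getD i 0).Prime := ⟨by interval_cases i <;> norm_num⟩
  rw [← orderOf_eq_prime hp hne, ← Subgroup.orderOf_mk π hπ]
  exact orderOf_dvd_natCard _

/-- Pairs of a linear map of the plane and the permutation it induces. -/
def linGp : Subgroup (GL (Fin 3) F4 × Equiv.Perm (Fin 1024)) where
  carrier := {x | ∃ (n : E) (N : SU6), QuotientGroup.mk' (Subgroup.center SU6) N = σ n ∧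
    (∀ v : Fin 1024, n * D.ev v * n⁻¹ = D.ev (x.2 v : ℕ)) ∧
    ∀ p, mat N *ᵥ emb p = emb ((x.1 : Matrix (Fin 3) (Fin 3) F4) *ᵥ p)}
  one_mem' := ⟨1, 1, by simp, fun v => by simp, fun p => by simp [mat_one]⟩
  mul_mem' := by
    rintro x y ⟨n, N, h1, h2, h3⟩ ⟨m, M, g1, g2, g3⟩
    refine ⟨n * m, N * M, by rw [map_mul, map_mul, h1, g1], fun v => ?_, fun p => ?_⟩
    · rw [Prod.snd_mul, Equiv.Perm.mul_apply, ← h2, ← g2]; group
    · rw [mat_mul, ← Matrix.mulVec_mulVec, g3, h3, Matrix.mulVec_mulVec]; rfl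
  inv_mem' := by
    rintro x ⟨n, N, h1, h2, h3⟩
    refine ⟨n⁻¹, N⁻¹, by rw [map_inv, map_inv, h1], fun v => ?_, fun p => ?_⟩
    · have e := h2 (x.2⁻¹ v)
      simp only [Equiv.Perm.inv_def, Equiv.apply_symm_apply] at e
      rw [Prod.snd_inv, ← e]; group; rfl
    · have e := h3 (((x.1⁻¹ : GL (Fin 3) F4) : Matrix (Fin 3) (Fin 3) F4) *ᵥ p)
      rw [Matrix.mulVec_mulVec, ← Units.val_mul, mul_inv_cancel, Units.val_one, Matrix.one_mulVec] at e
      rw [Prod.fst_inv, ← e, Matrix.mulVec_mulVec, ← mat_mul, inv_mul_cancel, mat_one, Matrix.one_mulVec]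

theorem card_le : Nat.card (permGp D.ev) ∣ 181440 := by
  have h2 : Function.Surjective fun x : D.linGp => (⟨x.1.2, by
      obtain ⟨n, N, -, h, -⟩ := x.2; exact ⟨n, h⟩⟩ : permGp D.ev) := by
    rintro ⟨π, n, hn⟩
    have hn' : ∀ x ∈ D.AA, n * x * n⁻¹ ∈ D.AA := by
      rintro _ ⟨v, hv, rfl⟩
      exact ⟨π ⟨v, hv⟩, (π ⟨v, hv⟩).2, (hn ⟨v, hv⟩).symm⟩
    obtain ⟨N, hN⟩ := QuotientGroup.mk'_surjective (Subgroup.center SU6) (σ n)
    obtain ⟨a, ha, hap⟩ := D.exists_linear hn' hN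
    exact ⟨⟨(ha.unit, π), n, N, hN, hn, hap⟩, rfl⟩
  let p2 : D.linGp →* permGp D.ev := MonoidHom.mk' (fun x : D.linGp => (⟨x.1.2, by
      obtain ⟨n, N, -, h, -⟩ := x.2; exact ⟨n, h⟩⟩ : permGp D.ev)) (fun x y => rfl)
  have d1 : Nat.card (permGp D.ev) ∣ Nat.card D.linGp := Subgroup.card_dvd_of_surjective p2 h2
  let p1 : D.linGp →* GL (Fin 3) F4 := (MonoidHom.fst _ _).comp D.linGp.subtype
  have hp1 : Function.Injective p1 := by
    rw [injective_iff_map_eq_one]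
    rintro ⟨⟨a, π⟩, n, N, hN, h, hap⟩ ha
    change a = 1 at ha
    subst ha
    have hπ : π = 1 := Equiv.ext fun v => Fin.ext (D.ev_inj (π v).2 v.2 (by
      show D.ev (π v : ℕ) = D.ev v
      rw [← h v]
      exact D.centralizes hN (fun p => by rw [hap, Units.val_one, Matrix.one_mulVec]) v.2))
    exact Subtype.ext (Prod.ext rfl hπ)
  refine d1.trans ((Subgroup.card_dvd_of_injective p1 hp1).trans (dvd_of_eq ?_))
  rw [Matrix.card_GL_field, Fin.prod_univ_three, F4.card]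
  norm_num

theorem card_cases : ∃ d ∈ [105, 315, 945, 2835], Nat.card (permGp D.ev) = 64 * d := by
  have h64 : 64 ∣ Nat.card (permGp D.ev) := D.card_UP ▸ Subgroup.card_dvd_of_le D.UP_le
  obtain ⟨d, hd⟩ := h64
  have hle := D.card_le
  rw [hd] at hle
  have hd2 : d ∣ 2835 := Nat.dvd_of_mul_dvd_mul_left (by norm_num : 0 < 64) (by simpa using hle)
  have hp : ∀ i < 3, [3, 5, 7].getD i 0 ∣ 64 * d := fun i hi => hd ▸ D.prime_dvd i hi
  have key : (List.range 2836).all (fun d => !(Nat.beq (2835 % d) 0 && Nat.beq (64 * d % 3) 0 &&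
      Nat.beq (64 * d % 5) 0 && Nat.beq (64 * d % 7) 0) || [105, 315, 945, 2835].contains d) = true := by
    decide +kernel
  have hk := List.all_eq_true.1 key d (List.mem_range.2 (Nat.lt_succ_of_le (Nat.le_of_dvd (by norm_num) hd2)))
  have m3 : 64 * d % 3 = 0 := Nat.mod_eq_zero_of_dvd (hp 0 (by norm_num))
  have m5 : 64 * d % 5 = 0 := Nat.mod_eq_zero_of_dvd (hp 1 (by norm_num))
  have m7 : 64 * d % 7 = 0 := Nat.mod_eq_zero_of_dvd (hp 2 (by norm_num))
  rw [Nat.mod_eq_zero_of_dvd hd2, m3, m5, m7] at hk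
  exact ⟨d, by simpa using hk, hd⟩

/-- The Sylow 2-subgroup. -/
def SS : Subgroup E where
  carrier := {n | ∃ π ∈ D.UP, ∀ v : Fin 1024, n * D.ev v * n⁻¹ = D.ev (π v : ℕ)}
  one_mem' := ⟨1, one_mem _, fun v => by simp⟩
  mul_mem' := by
    rintro n m ⟨π, hπ, hn⟩ ⟨ρ, hρ, hm⟩
    exact ⟨π * ρ, mul_mem hπ hρ, fun v => by rw [Equiv.Perm.mul_apply, ← hn, ← hm]; group⟩
  inv_mem' := by
    rintro n ⟨π, hπ, hn⟩
    refine ⟨π⁻¹, inv_mem hπ, fun v => ?_⟩
    have e := hn (π⁻¹ v)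
    simp only [Equiv.Perm.inv_def, Equiv.apply_symm_apply] at e
    rw [← e]; group; rfl

theorem act_unique {n : E} {π ρ : Equiv.Perm (Fin 1024)} (h : ∀ v : Fin 1024, n * D.ev v * n⁻¹ = D.ev (π v : ℕ))
    (h' : ∀ v : Fin 1024, n * D.ev v * n⁻¹ = D.ev (ρ v : ℕ)) : π = ρ :=
  Equiv.ext fun v => Fin.ext (D.ev_inj (π v).2 (ρ v).2 ((h v).symm.trans (h' v)))

theorem AA_le_SS : D.AA ≤ D.SS := by
  rintro _ ⟨w, hw, rfl⟩
  exact ⟨1, one_mem _, fun v => by rw [D.ev_comm, mul_inv_cancel_right]; rfl⟩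

/-- The action of the Sylow 2-subgroup. -/
noncomputable def sHom : D.SS →* D.UP :=
  MonoidHom.mk' (fun n => ⟨n.2.choose, n.2.choose_spec.1⟩) fun n m => Subtype.ext (D.act_unique
    (n := ((n * m : D.SS) : E)) (n * m).2.choose_spec.2 (fun v => by
      show _ = D.ev (((n.2.choose * m.2.choose) v : Fin 1024) : ℕ)
      rw [Equiv.Perm.mul_apply, ← n.2.choose_spec.2, ← m.2.choose_spec.2, Subgroup.coe_mul]
      group))

theorem sHom_spec (n : D.SS) (v : Fin 1024) :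
    (n : E) * D.ev v * (n : E)⁻¹ = D.ev (((D.sHom n).1 v : Fin 1024) : ℕ) := n.2.choose_spec.2 v

theorem sHom_ker : D.sHom.ker = D.AA.subgroupOf D.SS := by
  ext n
  rw [MonoidHom.mem_ker, Subgroup.mem_subgroupOf]
  constructor
  · intro h
    refine D.self_centralizing fun v hv => ?_
    rw [D.sHom_spec n ⟨v, hv⟩, h]; rfl
  · rintro ⟨w, hw, e⟩
    refine Subtype.ext (D.act_unique (D.sHom_spec n) fun v => ?_)
    rw [← e, D.ev_comm, mul_inv_cancel_right]; rfl

theorem sHom_surj : Function.Surjective D.sHom := by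
  rintro ⟨π, hπ⟩
  obtain ⟨n, hn⟩ := D.UP_le hπ
  exact ⟨⟨n, π, hπ, hn⟩, Subtype.ext (D.act_unique (D.sHom_spec _) hn)⟩

theorem card_AA : Nat.card D.AA = 1024 := by
  rw [← Nat.card_congr (Equiv.ofBijective (fun v : Fin 1024 => (⟨D.ev v, D.ev_mem v.2⟩ : D.AA))
    ⟨fun a b h => Fin.ext (D.ev_inj a.2 b.2 (Subtype.ext_iff.1 h)), fun ⟨x, v, hv, e⟩ => ⟨⟨v, hv⟩, Subtype.ext e⟩⟩),
    Nat.card_fin]

theorem card_SS : Nat.card D.SS = 2 ^ 16 := by
  haveI := D.finite
  have h := D.sHom.ker.index_mul_card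
  rw [Subgroup.index_ker, MonoidHom.range_eq_top.2 D.sHom_surj, Subgroup.card_top, D.card_UP, D.sHom_ker,
    Nat.card_congr (Subgroup.subgroupOfEquivOfLe D.AA_le_SS).toEquiv, D.card_AA] at h
  omega

include D in
theorem card_E : Nat.card E = 2 * 9196830720 := by
  have h := σ.ker.index_mul_card
  have hk : Nat.card σ.ker = 2 := by
    have : (σ.ker : Set E) = {1, δ} := Set.ext fun x => by
      rw [SetLike.mem_coe, MonoidHom.mem_ker, D.ker x]; simp
    rw [← SetLike.coe_sort_coe, this, Nat.card_coe_set_eq, Set.ncard_pair D.ne.symm]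
  rw [Subgroup.index_ker, MonoidHom.range_eq_top.2 D.stem.1, Subgroup.card_top, card_U0, hk] at h
  omega

theorem conj_into_SS {H : Subgroup E} (hH : IsPGroup 2 H) : ∃ g : E, ∀ x ∈ H, g * x * g⁻¹ ∈ D.SS := by
  haveI := D.finite
  haveI : Fact (Nat.Prime 2) := ⟨Nat.prime_two⟩
  have hcard : Nat.card D.SS = 2 ^ (Nat.card E).factorization 2 := by
    rw [D.card_SS, D.card_E, pow_fact.1, Nat.factorization_mul (by norm_num) (by norm_num),
      Nat.factorization_pow, Finsupp.add_apply, Finsupp.smul_apply, Nat.Prime.factorization_self Nat.prime_two,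
      Nat.factorization_eq_zero_of_not_dvd pow_fact.2]
    norm_num
  obtain ⟨P, hP⟩ := hH.exists_le_sylow
  obtain ⟨g, hg⟩ := MulAction.exists_smul_eq E P (Sylow.ofCard D.SS hcard)
  refine ⟨g, fun x hx => ?_⟩
  have : g * x * g⁻¹ ∈ ((g • P : Sylow 2 E) : Subgroup E) := by
    rw [Sylow.coe_subgroup_smul]
    exact ⟨x, hP hx, rfl⟩
  rw [hg] at this
  exact this

end Mod

end CfsgLib.Recog.UsixMult.Plane
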