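import Cfsg.Agent.Lib.Recog.UsixMult.Plane.Basis
import Cfsg.Agent.Lib.Recog.UsixMult.Involutions

/-!
# The 21 lifted transvections and the stabiliser of the plane

Owner: helper6.
-/

set_option autoImplicit false
set_option maxRecDepth 20000

namespace CfsgLib.Recog.UsixMult.Plane

open Cfsg CfsgLib.Recog.SporBound CfsgLib.Recog.SporBound.Fi22U6 CfsgLib.Recog.UsixMult CfsgLib.ThreeTrans.CosetIndex
open scoped Matrix

local notation "hf" => Cfsg.hermForm 6 F4 2
local notation "mkU" => QuotientGroup.mk' (Subgroup.center SU6)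

/-- The vector of a point. -/
noncomputable def vF (j : ℕ) : Fin 6 → F4 := toF (vL j)

/-- The plane. -/
def emb (p : Fin 3 → F4) : Fin 6 → F4 := ![p 0, p 0, p 1, p 1, p 2, p 2]

theorem vL_len (j : ℕ) : (vL j).length = 6 := rfl

theorem vF_iso {j : ℕ} (hj : j < 21) : hf (vF j) (vF j) = 0 := by
  have h := List.all_eq_true.1 trans_ok j (List.mem_range.2 hj)
  simp only [Bool.and_eq_true, decide_eq_true_eq] at h
  rw [vF, herm_toF (vL_len j) (vL_len j)]
  exact h.2

theorem tsu_sq {v : Fin 6 → F4} (hv : hf v v = 0) : tsu v * tsu v = 1 := eq_of_mulVec fun x => by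
  rw [mat_mul, ← Matrix.mulVec_mulVec, tsu_apply hv, tsu_apply hv, hf_add_left, hf_smul_left, hv,
    mul_zero, add_zero, mat_one, Matrix.one_mulVec, add_assoc, fadd_self, add_zero]

theorem mkU_trans {j : ℕ} {w : List ℕ} (h : transB j w = true) (hj : j < 21) :
    (w.map bU).prod = mkU (tsu (vF j)) := by
  simp only [transB, Bool.and_eq_true, List.any_eq_true] at h
  obtain ⟨hl, l, -, hl'⟩ := h
  rw [bU_word, QuotientGroup.mk'_apply, QuotientGroup.mk'_apply, QuotientGroup.eq_iff_div_mem, div_eq_mul_inv,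
    inv_eq_of_mul_eq_one_right (tsu_sq (vF_iso hj))]
  refine central_of_mat (l := l) ?_
  have hw : mat ((w.map bS).prod) = l • mat (tsu (vF j)) := by
    ext a b
    obtain ⟨-, he⟩ := word_img hl b
    have hb := eq_of_beq (List.all_eq_true.1 hl' b.val (List.mem_range.2 b.2))
    obtain ⟨h6, ht⟩ := toF_ltr (vL_len j) (show (basisL b.val).length = 6 from length_lvec _)
    rw [hb, toF_map h6, ht, ← herm_toF (show (basisL b.val).length = 6 from length_lvec _) (vL_len j),
      ← tsu_apply (v := toF (vL j)) (vF_iso hj), toF_basis] at he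
    have := congrFun he a
    simp only [Matrix.mulVec_single_one, Matrix.col_apply, Pi.smul_apply, smul_eq_mul] at this
    rw [Matrix.smul_apply, smul_eq_mul]
    exact this
  rw [mat_mul, hw, Matrix.smul_mul, ← mat_mul, tsu_sq (vF_iso hj), mat_one]

theorem scalar_one {μ : F4} (h : μ * μ = 1) : μ = 1 := by
  revert h; revert μ; decide +kernel

theorem tsu_eq_of_mk {a b : Fin 6 → F4} (ha : hf a a = 0) (hb : hf b b = 0) (h : mkU (tsu a) = mkU (tsu b)) :
    tsu a = tsu b := by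
  rw [QuotientGroup.mk'_apply, QuotientGroup.mk'_apply, QuotientGroup.eq_iff_div_mem, div_eq_mul_inv,
    inv_eq_of_mul_eq_one_right (tsu_sq hb)] at h
  obtain ⟨μ, -, hm⟩ := scalar_of_central h
  have e : tsu a = tsu a * tsu b * tsu b := by rw [mul_assoc, tsu_sq hb, mul_one]
  have hc := Subgroup.mem_center_iff.1 h (tsu b)
  have hsq : (tsu a * tsu b) * (tsu a * tsu b) = 1 := by
    calc (tsu a * tsu b) * (tsu a * tsu b) = tsu a * (tsu b * (tsu a * tsu b)) := by simp only [mul_assoc]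
      _ = tsu a * (tsu a * tsu b * tsu b) := by rw [hc]
      _ = 1 := by rw [← e, tsu_sq ha]
  have h1 := congrArg mat hsq
  rw [mat_mul, hm, mat_one, Matrix.smul_mul, Matrix.mul_smul, Matrix.one_mul, smul_smul] at h1
  have h00 := congrFun (congrFun h1 0) 0
  rw [Matrix.smul_apply, Matrix.one_apply_eq, smul_eq_mul, mul_one] at h00
  rw [e, eq_of_mat (M := tsu a * tsu b) (N := 1) (by rw [hm, scalar_one h00, one_smul, mat_one]), one_mul]

theorem prop_of_tsu {a b : Fin 6 → F4} (ha : hf a a = 0) (hb : hf b b = 0) (h0 : a ≠ 0) (hb0 : b ≠ 0)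
    (h : tsu a = tsu b) : ∃ l : F4, l ≠ 0 ∧ a = l • b := by
  obtain ⟨x, hx⟩ : ∃ x, hf x a ≠ 0 := by
    by_contra hn
    push_neg at hn
    exact h0 (hf_nondeg fun y => by rw [hf_swap y a, hn y]; simp)
  have e := congrArg (fun N => mat N *ᵥ x) h
  simp only [tsu_apply ha, tsu_apply hb] at e
  have e2 : hf x a • a = hf x b • b := add_left_cancel e
  refine ⟨(hf x a)⁻¹ * hf x b, fun hl => ?_, ?_⟩
  · rcases mul_eq_zero.1 hl with hl | hl
    · exact hx (inv_eq_zero.1 hl)
    · rw [hl, zero_smul, smul_eq_zero] at e2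
      exact e2.elim hx h0
  · rw [mul_smul, ← e2, smul_smul, inv_mul_cancel₀ hx, one_smul]

theorem emb_add (p q : Fin 3 → F4) : emb (p + q) = emb p + emb q := by
  funext i; fin_cases i <;> rfl

theorem emb_smul (c : F4) (p : Fin 3 → F4) : emb (c • p) = c • emb p := by
  funext i; fin_cases i <;> rfl

theorem emb_inj {p q : Fin 3 → F4} (h : emb p = emb q) : p = q := by
  funext i
  fin_cases i
  exacts [congrFun h 0, congrFun h 2, congrFun h 4]

theorem emb_zero : emb 0 = 0 := by funext i; fin_cases i <;> rfl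

theorem emb_point {p : Fin 3 → F4} (hp : p ≠ 0) : ∃ j < 21, ∃ l : F4, l ≠ 0 ∧ emb p = l • vF j := by
  obtain ⟨j, hj, l, hl, e⟩ := cover_pts (p 0) (p 1) (p 2) fun ⟨h0, h1, h2⟩ => hp (by
    funext i; fin_cases i <;> assumption)
  refine ⟨j, hj, l, hl, ?_⟩
  rw [vF, ← toF_map (vL_len j), ← e]
  funext i
  fin_cases i <;> rfl

theorem vF_emb (j : ℕ) : ∃ p : Fin 3 → F4, emb p = vF j := by
  refine ⟨![F4.ofNat4 (pP.getD j (0, 0, 0)).1, F4.ofNat4 (pP.getD j (0, 0, 0)).2.1,
    F4.ofNat4 (pP.getD j (0, 0, 0)).2.2], ?_⟩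
  funext i
  fin_cases i <;> rfl

theorem vF_ne {j : ℕ} (hj : j < 21) : vF j ≠ 0 := fun h => by
  have hd : ∀ j < 21, vL j ≠ [0, 0, 0, 0, 0, 0] := by decide +kernel
  exact hd j hj (toF_inj rfl rfl (h.trans (funext fun i => by fin_cases i <;> rfl)))

theorem pre_pal : (List.range 21).all (fun j =>
    let w := pW.getD j []
    w == w.take (w.length / 2) ++ [w.getD (w.length / 2) 0] ++ (w.take (w.length / 2)).reverse) = true := by
  decide +kernel

theorem bP_conj (x : ℕ) (hx : x < 8) : IsConj (bP 0) (bP x) := by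
  have step : ∀ u v, adj u v = true → IsConj (bP u) (bP v) := by
    intro u v h
    refine isConj_iff.2 ⟨bP u * bP v, ?_⟩
    rw [mul_inv_eq_iff_eq_mul]
    calc bP u * bP v * bP u = bP u * (bP v * bP u) := mul_assoc _ _ _
      _ = _ := bP_braid h
  have h10 := (step 1 0 (by decide)).symm
  have h12 := h10.trans (step 1 2 (by decide))
  have h15 := h10.trans (step 1 5 (by decide))
  interval_cases x
  · exact IsConj.refl _
  · exact h10
  · exact h12
  · exact h12.trans (step 2 3 (by decide))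
  · exact (h12.trans (step 2 3 (by decide))).trans (step 3 4 (by decide))
  · exact h15
  · exact h15.trans (step 5 6 (by decide))
  · exact h10.trans (step 1 7 (by decide))

variable {E : Type*} [Group E] {σ : E →* U0} {δ : E} (D : Mod σ δ)

namespace Mod

theorem σ_PT {j : ℕ} (hj : j < 21) : σ (D.PT j) = mkU (tsu (vF j)) := by
  have h := List.all_eq_true.1 trans_ok j (List.mem_range.2 hj)
  simp only [Bool.and_eq_true] at h
  rw [PT, σ_W]
  exact mkU_trans h.1 hj

theorem PT_class {j : ℕ} (hj : j < 21) : ∃ e : E, D.PT j = e * D.Φ (bP 0) * e⁻¹ := by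
  have h := eq_of_beq (List.all_eq_true.1 pre_pal j (List.mem_range.2 hj))
  have hl := List.all_eq_true.1 pal_ok j (List.mem_range.2 hj)
  rw [Bool.and_eq_true] at hl
  generalize hw : pW.getD j [] = w at h hl
  set u := w.take (w.length / 2)
  set x := w.getD (w.length / 2) 0
  have hx : x < 8 := lett hl.1 x (by rw [h]; simp)
  obtain ⟨c, hc⟩ := isConj_iff.1 (bP_conj x hx)
  refine ⟨D.W u * D.Φ c, ?_⟩
  rw [PT, hw, h, W_append, W_append, W_reverse,
    show D.W [x] = D.Φ (bP x) by simp [W], ← hc, map_mul, map_mul, map_inv]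
  group

theorem conj_PT {j k : ℕ} (hj : j < 21) (hk : k < 21) (n : E)
    (h : σ (n * D.PT j * n⁻¹) = σ (D.PT k)) : n * D.PT j * n⁻¹ = D.PT k := by
  obtain ⟨e, he⟩ := D.PT_class hj
  obtain ⟨d, hd⟩ := D.PT_class hk
  have hB : σ (D.Φ (bP 0)) = bU 0 := by rw [D.comm, psi_bP]
  rw [he, hd] at h ⊢
  have := conj_eq σ D.stem.1 D.stem.2.1 hB (e := n * e) (d := d) (by
    rw [map_mul]
    simp only [map_mul, map_inv, hB] at h
    rw [← h]; group)
  rw [← this]; group

theorem PT_ne {j : ℕ} (hj : j < 21) : σ (D.PT j) ≠ 1 := by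
  intro e
  rw [σ_PT D hj, QuotientGroup.mk'_apply, QuotientGroup.eq_one_iff] at e
  obtain ⟨μ, -, hm⟩ := scalar_of_central e
  have h00 := congrArg mat (tsu_sq (vF_iso hj))
  rw [mat_mul, hm, mat_one, Matrix.smul_mul, Matrix.mul_smul, Matrix.one_mul, smul_smul] at h00
  have h1 := congrFun (congrFun h00 0) 0
  rw [Matrix.smul_apply, Matrix.one_apply_eq, smul_eq_mul, mul_one] at h1
  refine vF_ne hj (hf_nondeg fun y => ?_)
  have e2 := congrArg (fun M => M *ᵥ y) hm
  simp only [tsu_apply (vF_iso hj), scalar_one h1, one_smul, Matrix.one_mulVec] at e2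
  have e3 : hf y (vF j) • vF j = 0 := add_left_cancel (e2.trans (add_zero y).symm)
  rw [smul_eq_zero] at e3
  rw [hf_swap, e3.resolve_right (vF_ne hj)]
  simp

theorem isConj_PT {j : ℕ} (hj : j < 21) : IsConj (bU 0) (σ (D.PT j)) := by
  rw [σ_PT D hj]
  exact isConj_tsu (vF_ne hj) (vF_iso hj)

theorem rank_not {m : ℕ} (hm : m ∈ [3, 19]) : ¬ IsConj (bU 0) (σ (D.W (bword m))) := by
  intro hc
  have h := List.all_eq_true.1 rank_ok m hm
  simp only [rankB, Bool.and_eq_true] at h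
  obtain ⟨hl, h⟩ := h
  obtain ⟨g, hg⟩ := isConj_iff.1 hc
  obtain ⟨M, rfl⟩ := QuotientGroup.mk'_surjective (Subgroup.center SU6) g
  have h0 : bU 0 = mkU (tsu (V (nrow 0))) := by rw [bU, bS, if_pos (by norm_num)]
  have hiso := iso_row (nrow_mem (x := 0) (by norm_num)).1 (nrow_mem (x := 0) (by norm_num)).2
  rw [h0, ← map_inv, ← map_mul, ← map_mul, tsu_conj M hiso, σ_W, bU_word, QuotientGroup.mk'_apply,
    QuotientGroup.mk'_apply, eq_comm, QuotientGroup.eq_iff_div_mem, div_eq_mul_inv] at hg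
  have hvi : hf (mat M *ᵥ V (nrow 0)) (mat M *ᵥ V (nrow 0)) = 0 := by rw [form_eq]; exact hiso
  rw [inv_eq_of_mul_eq_one_right (tsu_sq hvi)] at hg
  generalize hv : mat M *ᵥ V (nrow 0) = v at hg hvi
  obtain ⟨μ, hμ, hm'⟩ := scalar_of_central hg
  set P := ((bword m).map bS).prod
  have hP : mat P = μ • mat (tsu v) := by
    have e : P = P * tsu v * tsu v := by rw [mul_assoc, tsu_sq hvi, mul_one]
    rw [e, mat_mul, hm', Matrix.smul_mul, Matrix.one_mul]
  have hmem : μ ∈ [F4.one, F4.om, F4.om'] := by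
    cases μ
    · exact absurd rfl hμ
    all_goals simp
  have hr := List.all_eq_true.1 h μ hmem
  simp only [List.any_eq_true, List.mem_range, Bool.not_eq_true', decide_eq_false_iff_not] at hr
  obtain ⟨i, hi, i', hi', p, hp, p', hp', hne⟩ := hr
  have val : ∀ i p : Fin 6, ((((List.range 6).map fun i => laxpy μ (limg ((bword m).map nrow) (basisL i))
      (basisL i)).getD i.val []).getD p.val 0) = μ * hf (Pi.single i 1) v * v p := by
    intro i p
    obtain ⟨hlen, he⟩ := word_img hl i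
    rw [List.getD_eq_getElem ((List.range 6).map fun i => laxpy μ (limg ((bword m).map nrow) (basisL i)) (basisL i))
      [] (by simp), List.getElem_map, List.getElem_range]
    obtain ⟨x₀, x₁, x₂, x₃, x₄, x₅, hx⟩ := six hlen
    obtain ⟨y₀, y₁, y₂, y₃, y₄, y₅, hy⟩ := six (show (basisL i.val).length = 6 from length_lvec _)
    have e1 : (laxpy μ (limg ((bword m).map nrow) (basisL i.val)) (basisL i.val)).getD p.val 0 =
        toF (limg ((bword m).map nrow) (basisL i.val)) p + μ * toF (basisL i.val) p := by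
      rw [hx, hy]
      fin_cases p <;> rfl
    rw [e1, ← he, hP, toF_basis, Matrix.smul_mulVec, tsu_apply hvi]
    simp only [Pi.add_apply, Pi.smul_apply, smul_eq_mul]
    rw [mul_add, add_right_comm, add_self_eq, zero_add, mul_assoc]
  refine hne ?_
  rw [val ⟨i, hi⟩ ⟨p, hp⟩, val ⟨i', hi'⟩ ⟨p', hp'⟩, val ⟨i, hi⟩ ⟨p', hp'⟩, val ⟨i', hi'⟩ ⟨p, hp⟩]
  rw [show ∀ a b c d : F4, a * b * (c * d) + a * d * (c * b) = 0 by decide +kernel]

/-- The module as a subgroup. -/
def AA : Subgroup E where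
  carrier := {x | ∃ v < 1024, D.ev v = x}
  one_mem' := ⟨0, by norm_num, D.ev_zero⟩
  mul_mem' := by
    rintro _ _ ⟨v, hv, rfl⟩ ⟨w, hw, rfl⟩
    exact ⟨v ^^^ w, Nat.xor_lt_two_pow (n := 10) hv hw, D.ev_xor v w⟩
  inv_mem' := by
    rintro _ ⟨v, hv, rfl⟩
    exact ⟨v, hv, (D.ev_inv v).symm⟩

theorem mem_AA {x : E} : x ∈ D.AA ↔ ∃ v < 1024, D.ev v = x := Iff.rfl

theorem ev_mem {v : ℕ} (hv : v < 1024) : D.ev v ∈ D.AA := ⟨v, hv, rfl⟩

theorem mem_AA_of_σ {x : E} {v : ℕ} (hv : v < 1024) (h : σ x = σ (D.ev v)) : x ∈ D.AA := by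
  rcases (D.ker (x * (D.ev v)⁻¹)).1 (by rw [map_mul, map_inv, h, mul_inv_cancel]) with e | e
  · exact ⟨v, hv, (mul_inv_eq_one.1 e).symm⟩
  · rw [mul_inv_eq_iff_eq_mul] at e
    rw [e]
    have h1 : δ * D.ev v = D.ev (1 ^^^ v) := by rw [D.ev_xor, D.ev_one]
    rw [h1]
    exact D.ev_mem (Nat.xor_lt_two_pow (n := 10) (by norm_num) hv)

theorem point_of_conj {v : ℕ} (hv : v < 1024) (h : IsConj (bU 0) (σ (D.ev v))) :
    ∃ k < 21, σ (D.ev v) = σ (D.PT k) := by
  have hne : σ (D.ev v) ≠ 1 := fun e => D.PT_ne (j := 0) (by norm_num) (by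
    rw [e] at h
    have := (D.isConj_PT (j := 0) (by norm_num)).symm.trans h
    exact isConj_one_right.1 this.symm)
  have h2 : 2 ≤ v := by
    by_contra hlt
    interval_cases v
    · exact hne (by rw [D.ev_zero, map_one])
    · exact hne (by rw [D.ev_one, D.σ_δ])
  obtain ⟨l1, l5⟩ := D.lab_cases h2 hv
  have hr := (D.orbit_prop (P := fun x => IsConj (bU 0) (σ x)) (fun x g => by
    have hc : IsConj (σ x) (σ (g * x * g⁻¹)) := isConj_iff.2 ⟨σ g, by rw [map_mul, map_mul, map_inv]⟩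
    exact ⟨fun e => e.trans hc, fun e => e.trans hc.symm⟩) (v := v) (by omega) hv).1 h
  rw [σ_ev_div] at hr
  rcases (show lab D.c v = 1 ∨ lab D.c v = 2 ∨ lab D.c v = 3 ∨ lab D.c v = 4 ∨ lab D.c v = 5 by omega) with
    e | e | e | e | e
  all_goals first
    | (rw [e] at hr; exact absurd hr (D.rank_not (by decide)))
    | skip
  all_goals
    obtain ⟨k, hk, hkv⟩ := pt_ok D.c D.hc v hv (by omega)
    refine ⟨k, hk, ?_⟩
    rw [(D.PT_eq hk).1, σ_ev_div, D.σ_ev_div (ptV D.c k), hkv]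

/-- An element normalising the module permutes the lifted transvections. -/
theorem move {n : E} (hn : ∀ x ∈ D.AA, n * x * n⁻¹ ∈ D.AA) {N : SU6} (hN : mkU N = σ n) {j : ℕ} (hj : j < 21) :
    ∃ k < 21, n * D.PT j * n⁻¹ = D.PT k ∧ ∃ l : F4, l ≠ 0 ∧ mat N *ᵥ vF j = l • vF k := by
  obtain ⟨v, hv, hve⟩ := hn (D.PT j) (by rw [(D.PT_eq hj).1]; exact D.ev_mem (D.PT_eq hj).2)
  have hc : IsConj (bU 0) (σ (D.ev v)) := by
    rw [hve]
    exact (D.isConj_PT hj).trans (isConj_iff.2 ⟨σ n, by rw [map_mul, map_mul, map_inv]⟩)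
  obtain ⟨k, hk, hkv⟩ := D.point_of_conj hv hc
  rw [hve] at hkv
  refine ⟨k, hk, D.conj_PT hj hk n hkv, ?_⟩
  have hiso : hf (mat N *ᵥ vF j) (mat N *ᵥ vF j) = 0 := by rw [form_eq]; exact vF_iso hj
  rw [map_mul, map_mul, map_inv, σ_PT D hj, σ_PT D hk, ← hN, ← map_inv, ← map_mul, ← map_mul,
    tsu_conj N (vF_iso hj)] at hkv
  refine prop_of_tsu hiso (vF_iso hk) (fun h0 => vF_ne hj ?_) (vF_ne hk) (tsu_eq_of_mk hiso (vF_iso hk) hkv)
  exact hf_nondeg fun y => by rw [← form_eq N, h0, hf_zero_left]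

/-- An element normalising the module is linear on the plane. -/
theorem exists_linear {n : E} (hn : ∀ x ∈ D.AA, n * x * n⁻¹ ∈ D.AA) {N : SU6} (hN : mkU N = σ n) :
    ∃ a : Matrix (Fin 3) (Fin 3) F4, IsUnit a ∧ ∀ p, mat N *ᵥ emb p = emb (a *ᵥ p) := by
  have col : ∀ k : Fin 3, ∃ q, mat N *ᵥ emb (Pi.single k 1) = emb q := by
    intro k
    obtain ⟨j, hj, l, -, he⟩ := emb_point (p := Pi.single k (1 : F4))
      (fun h => by simpa using congrFun h k)
    obtain ⟨i, -, -, m, -, hm⟩ := D.move hn hN hj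
    obtain ⟨q, hq⟩ := vF_emb i
    exact ⟨(l * m) • q, by rw [he, Matrix.mulVec_smul, hm, smul_smul, emb_smul, hq]⟩
  choose q hq using col
  let a : Matrix (Fin 3) (Fin 3) F4 := Matrix.of fun i k => q k i
  have hp : ∀ p, mat N *ᵥ emb p = emb (a *ᵥ p) := by
    intro p
    have e : p = p 0 • Pi.single 0 1 + p 1 • Pi.single 1 1 + p 2 • Pi.single 2 1 := by
      funext i; fin_cases i <;> simp
    conv_lhs => rw [e, emb_add, emb_add, emb_smul, emb_smul, emb_smul, Matrix.mulVec_add, Matrix.mulVec_add,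
      Matrix.mulVec_smul, Matrix.mulVec_smul, Matrix.mulVec_smul, hq, hq, hq, ← emb_smul, ← emb_smul, ← emb_smul,
      ← emb_add, ← emb_add]
    congr 1
    funext i
    simp [a, Matrix.mulVec, dotProduct, Fin.sum_univ_three, mul_comm]
  refine ⟨a, Matrix.mulVec_injective_iff_isUnit.1 fun p p' h => ?_, hp⟩
  have : mat N *ᵥ emb p = mat N *ᵥ emb p' := by rw [hp, hp]; exact congrArg emb h
  have h2 := congrArg (fun y => mat N⁻¹ *ᵥ y) this
  simp only [Matrix.mulVec_mulVec, ← mat_mul, inv_mul_cancel, mat_one, Matrix.one_mulVec] at h2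
  exact emb_inj h2

theorem ev_generated (S : Subgroup E) (hδ : δ ∈ S) (hP : ∀ j < 21, D.PT j ∈ S) {v : ℕ} (hv : v < 1024) :
    D.ev v ∈ S := by
  refine list_prod_mem fun y hy => ?_
  obtain ⟨i, -, rfl⟩ := List.mem_map.1 hy
  by_cases hb : v.testBit i = true
  · rw [if_pos hb]
    rcases i with _ | i
    · exact hδ
    · exact hP _ (idx_lt i)
  · rw [if_neg hb]; exact one_mem S

/-- An element fixing the plane points centralises the module. -/
theorem centralizes {n : E} {N : SU6} (hN : mkU N = σ n)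
    (h : ∀ p, mat N *ᵥ emb p = emb p) {v : ℕ} (hv : v < 1024) : n * D.ev v * n⁻¹ = D.ev v := by
  have hS : ∀ j < 21, n * D.PT j * n⁻¹ = D.PT j := fun j hj => by
    refine D.conj_PT hj hj n ?_
    obtain ⟨p, hp⟩ := vF_emb j
    rw [map_mul, map_mul, map_inv, σ_PT D hj, ← hN, ← map_inv, ← map_mul, ← map_mul, tsu_conj N (vF_iso hj),
      ← hp, h, hp]
  have : D.ev v ∈ Subgroup.centralizer ({n} : Set E) := by
    refine D.ev_generated _ ?_ (fun j hj => ?_) hv
    · exact Subgroup.mem_centralizer_singleton_iff.2 (D.central n)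
    · exact Subgroup.mem_centralizer_singleton_iff.2 (by
        have := hS j hj; rw [mul_inv_eq_iff_eq_mul] at this; exact this.symm)
  rw [Subgroup.mem_centralizer_singleton_iff] at this
  rw [← this, mul_inv_cancel_right]

/-- The module is self-centralising. -/
theorem self_centralizing {n : E} (hn : ∀ v < 1024, n * D.ev v * n⁻¹ = D.ev v) : n ∈ D.AA := by
  obtain ⟨N, hN⟩ := QuotientGroup.mk'_surjective (Subgroup.center SU6) (σ n)
  have hn' : ∀ x ∈ D.AA, n * x * n⁻¹ ∈ D.AA := by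
    rintro _ ⟨v, hv, rfl⟩; rw [hn v hv]; exact D.ev_mem hv
  obtain ⟨a, -, ha⟩ := D.exists_linear hn' hN
  have eig : ∀ p : Fin 3 → F4, p ≠ 0 → ∃ l : F4, mat N *ᵥ emb p = l • emb p := by
    intro p hp
    obtain ⟨j, hj, m, hm, he⟩ := emb_point hp
    obtain ⟨p', hp'⟩ := vF_emb j
    have hPj : n * D.PT j * n⁻¹ = D.PT j := by rw [(D.PT_eq hj).1]; exact hn _ (D.PT_eq hj).2
    have e := congrArg σ hPj
    rw [map_mul, map_mul, map_inv, σ_PT D hj, ← hN, ← map_inv, ← map_mul, ← map_mul, tsu_conj N (vF_iso hj)] at e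
    have hiso : hf (mat N *ᵥ vF j) (mat N *ᵥ vF j) = 0 := by rw [form_eq]; exact vF_iso hj
    obtain ⟨l, -, hl⟩ := prop_of_tsu hiso (vF_iso hj)
      (fun h0 => vF_ne hj (hf_nondeg fun y => by rw [← form_eq N, h0, hf_zero_left])) (vF_ne hj)
      (tsu_eq_of_mk hiso (vF_iso hj) e)
    exact ⟨l, by rw [he, Matrix.mulVec_smul, hl, smul_comm]⟩
  have hs : ∀ k : Fin 3, (Pi.single k 1 : Fin 3 → F4) ≠ 0 := fun k h => by simpa using congrFun h k
  obtain ⟨l0, h0⟩ := eig _ (hs 0)
  obtain ⟨l1, h1⟩ := eig _ (hs 1)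
  obtain ⟨l2, h2⟩ := eig _ (hs 2)
  obtain ⟨l, hall⟩ := eig (fun _ => 1) (fun h => one_ne_zero (congrFun h 0))
  rw [show (fun _ : Fin 3 => (1 : F4)) = Pi.single 0 1 + Pi.single 1 1 + Pi.single 2 1 by
    funext i; fin_cases i <;> simp, emb_add, emb_add, Matrix.mulVec_add, Matrix.mulVec_add, h0, h1, h2,
    ← emb_smul, ← emb_smul, ← emb_smul, smul_add, smul_add, ← emb_smul, ← emb_smul, ← emb_smul, ← emb_add,
    ← emb_add, ← emb_add, ← emb_add] at hall
  have he := emb_inj hall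
  have e0 : l0 = l := by simpa using congrFun he 0
  have e1 : l1 = l := by simpa using congrFun he 1
  have e2 : l2 = l := by simpa using congrFun he 2
  have hscal : ∀ p, mat N *ᵥ emb p = l • emb p := by
    intro p
    conv_lhs => rw [show p = p 0 • Pi.single 0 1 + p 1 • Pi.single 1 1 + p 2 • Pi.single 2 1 by
      funext i; fin_cases i <;> simp, emb_add, emb_add, emb_smul, emb_smul, emb_smul, Matrix.mulVec_add,
      Matrix.mulVec_add, Matrix.mulVec_smul, Matrix.mulVec_smul, Matrix.mulVec_smul, h0, h1, h2, e0, e1, e2]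
    conv_rhs => rw [show p = p 0 • Pi.single 0 1 + p 1 • Pi.single 1 1 + p 2 • Pi.single 2 1 by
      funext i; fin_cases i <;> simp, emb_add, emb_add, emb_smul, emb_smul, emb_smul]
    simp only [smul_add, smul_smul, mul_comm]
  have hl0 : l ≠ 0 := fun h => by
    have h' := congrArg (fun y => mat N⁻¹ *ᵥ y) (hscal (Pi.single 0 1))
    simp only [Matrix.mulVec_mulVec, ← mat_mul, inv_mul_cancel, mat_one, Matrix.one_mulVec, h, zero_smul,
      Matrix.mulVec_zero] at h'
    exact hs 0 (emb_inj (h'.trans emb_zero.symm))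
  obtain ⟨z, hzc, hz⟩ : ∃ z : SU6, z ∈ Subgroup.center SU6 ∧
      mat z = l⁻¹ • (1 : Matrix (Fin 6) (Fin 6) F4) := by
    have hcases : ∀ l : F4, l ≠ 0 → l⁻¹ = 1 ∨ l⁻¹ = F4.om ∨ l⁻¹ = F4.om * F4.om := by decide +kernel
    rcases hcases l hl0 with e | e | e
    · exact ⟨1, one_mem _, by rw [e, one_smul, mat_one]⟩
    · exact ⟨omS, central_of_mat mat_omS, by rw [e, mat_omS]⟩
    · exact ⟨omS * omS, mul_mem (central_of_mat mat_omS) (central_of_mat mat_omS), by
        rw [e, mat_mul, mat_omS, Matrix.smul_mul, Matrix.one_mul, smul_smul]⟩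
  set N' := z * N with hN'def
  have hN' : mkU N' = σ n := by
    rw [hN'def, map_mul, show mkU z = 1 from (QuotientGroup.eq_one_iff _).2 hzc, one_mul, hN]
  have hfix : ∀ p, mat N' *ᵥ emb p = emb p := fun p => by
    rw [hN'def, mat_mul, ← Matrix.mulVec_mulVec, hscal, hz, Matrix.smul_mulVec, Matrix.one_mulVec, smul_smul,
      inv_mul_cancel₀ hl0, one_smul]
  have hW : ∀ x, ∃ p, disp N' x = emb p := by
    intro x
    have horth : ∀ p, hf (disp N' x) (emb p) = 0 := fun p => by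
      rw [disp, hf_add_left]
      conv_lhs => arg 1; rw [← hfix p, form_eq]
      exact add_self_eq _
    refine ⟨![disp N' x 0, disp N' x 2, disp N' x 4], ?_⟩
    have key : ∀ a b : F4, a + b = 0 → b = a := by decide +kernel
    have g0 := horth (Pi.single 0 1)
    have g1 := horth (Pi.single 1 1)
    have g2 := horth (Pi.single 2 1)
    simp [Cfsg.hermForm, Fin.sum_univ_six, emb] at g0 g1 g2
    funext i
    fin_cases i
    · rfl
    · exact key _ _ g0
    · rfl
    · exact key _ _ g1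
    · rfl
    · exact key _ _ g2
  have hinv : N' * N' = 1 := eq_of_mulVec fun x => by
    obtain ⟨p, hp⟩ := hW x
    rw [mat_mul, ← Matrix.mulVec_mulVec, mv_eq N' x, Matrix.mulVec_add, hp, hfix, mv_eq N' x, hp, mat_one,
      Matrix.one_mulVec, ← add_assoc, fadd_self, zero_add]
  obtain ⟨L, hL, hLd⟩ := exists_decomp _ N' le_rfl hinv
  have hmem : σ n ∈ D.AA.map σ := by
    rw [← hN', hL, map_list_prod, List.map_map]
    refine list_prod_mem fun y hy => ?_
    obtain ⟨v, hv, rfl⟩ := List.mem_map.1 hy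
    obtain ⟨hv0, x, rfl⟩ := hLd v hv
    obtain ⟨p, hp⟩ := hW x
    have hp0 : p ≠ 0 := fun h => hv0 (by rw [hp, h, emb_zero])
    obtain ⟨j, hj, m, hm, he⟩ := emb_point hp0
    refine ⟨D.PT j, by rw [(D.PT_eq hj).1]; exact D.ev_mem (D.PT_eq hj).2, ?_⟩
    rw [σ_PT D hj, Function.comp_apply, hp, he, tsu_smul (vF_iso hj) hm]
  obtain ⟨y, ⟨v, hv, rfl⟩, hy⟩ := hmem
  exact D.mem_AA_of_σ hv hy.symm

end Mod

end CfsgLib.Recog.UsixMult.Plane
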