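import Cfsg.Agent.Lib.Recog.UsixMult.Plane.Words

/-!
# Signs of relations in the double covers of PSU(6, 2)

Owner: helper6.
-/

set_option autoImplicit false
set_option maxRecDepth 20000

namespace CfsgLib.Recog.UsixMult.Plane

open Cfsg CfsgLib.Recog.SporBound CfsgLib.Recog.SporBound.Fi22U6 CfsgLib.Recog.UsixMult CfsgLib.ThreeTrans.CosetIndex
open CfsgLib.Recog.SporBound.Fi22Group (a)
open scoped Matrix

theorem lett {w : List ℕ} (h : lettB w = true) : ∀ x ∈ w, x < 8 := fun x hx => by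
  simpa using List.all_eq_true.1 h x hx

theorem psi_word (w : List ℕ) : psi ((w.map bP).prod) = (w.map bU).prod := by
  rw [map_list_prod, List.map_map]
  exact congrArg List.prod (List.map_congr_left fun x _ => psi_bP x)

theorem oneW_prod {w : List ℕ} (h : oneW w = true) : (w.map bU).prod = 1 := by
  simp only [oneW, Bool.and_eq_true, Bool.or_eq_true] at h
  obtain ⟨hl, h⟩ := h
  rw [bU_word, QuotientGroup.mk'_apply, QuotientGroup.eq_one_iff]
  rcases h with (h | h) | h <;> exact central_of_mat (mat_of_scal (lett hl) h)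

theorem word_img {w : List ℕ} (hl : lettB w = true) (i : Fin 6) :
    (limg (w.map nrow) (basisL i.val)).length = 6 ∧
      mat ((w.map bS).prod) *ᵥ toF (basisL i.val) = toF (limg (w.map nrow) (basisL i.val)) := by
  rw [word_eq (lett hl)]
  exact tprod_apply _ (fun r hr => by
    obtain ⟨x, hx, rfl⟩ := List.mem_map.1 hr
    exact nrow_mem (lett hl x hx)) _ (length_lvec _)

theorem oneW_of_prod {w : List ℕ} (hl : lettB w = true) (h : (w.map bU).prod = 1) : oneW w = true := by
  rw [bU_word, QuotientGroup.mk'_apply, QuotientGroup.eq_one_iff] at h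
  obtain ⟨μ, hμ, hm⟩ := scalar_of_central h
  have hs : scalOK μ w = true := by
    refine List.all_eq_true.2 fun i hi => beq_iff_eq.2 ?_
    obtain ⟨hlen, he⟩ := word_img hl ⟨i, List.mem_range.1 hi⟩
    refine toF_inj hlen (by simp [show (basisL i).length = 6 from length_lvec _]) ?_
    rw [← he, hm, toF_map (show (basisL i).length = 6 from length_lvec _), Matrix.smul_mulVec, Matrix.one_mulVec]
  have hcase : μ = F4.one ∨ μ = F4.om ∨ μ = F4.om' := by
    cases μ
    · exact absurd rfl hμ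
    all_goals simp
  simp only [oneW, hl, Bool.true_and]
  rcases hcase with rfl | rfl | rfl <;> rw [hs] <;> simp

/-- The two signed lifts, with their values on the generators. -/
theorem exists_liftVal (G : List (List ℕ)) (hlen : G.length = 8)
    (hone : ∀ w ∈ liftOne, fixOK (flatW G w) = true) (RB RC : Spor.Fi22)
    (hB : (relB.map (bK G)).prod = RB) (hC : (relC.map (bK G)).prod = RC)
    (hBc : RB = 1 ∨ RB = a 0) (hCc : RC = 1 ∨ RC = a 0) (hK : ∀ x, bK G x ∈ Fi22Group.K) :
    ∃ φ : Star →* Spor.Fi22, ∀ w : List ℕ, φ ((w.map bP).prod) = (w.map (bK G)).prod := by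
  have h1 : ∀ w ∈ liftOne, (w.map (bK G)).prod = 1 := fun w hw => by
    rw [bK_word]; exact eq_one_of_fix (hone w hw)
  have hcentral : ∀ R : Spor.Fi22, R = 1 ∨ R = a 0 → ∀ y, Commute R (bK G y) := by
    intro R hR y
    rcases hR with rfl | rfl
    · exact Commute.one_left _
    · exact (center_a _ (hK y)).symm
  obtain ⟨φ, hφ⟩ := exists_starHom (bK G)
    (fun x hx => by rw [bK, List.getD_eq_default _ _ (hlen ▸ hx)]; simp)
    (fun x y hx hy => h1 _ (by
      simp only [liftOne, List.mem_append, List.mem_flatMap, List.mem_map, List.mem_range]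
      exact Or.inl ⟨x, hx, y, hy, rfl⟩))
    (h1 _ (by simp [liftOne])) (h1 _ (by simp [liftOne]))
    (fun y => hB ▸ hcentral _ hBc y) (fun y => hC ▸ hcentral _ hCc y)
  refine ⟨φ, fun w => ?_⟩
  rw [map_list_prod, List.map_map]
  exact congrArg List.prod (List.map_congr_left fun x _ => hφ x)

theorem sign_value {G : List (List ℕ)} (φ : Star →* Spor.Fi22)
    (hφ : ∀ w : List ℕ, φ ((w.map bP).prod) = (w.map (bK G)).prod) {w : List ℕ} {b : Bool}
    (h : fixOK (flatW G w ++ if b then [0] else []) = true) :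
    φ ((w.map bP).prod) = if b then a 0 else 1 := by
  rw [hφ]
  cases b
  · simp only [Bool.false_eq_true, if_false, List.append_nil] at h
    rw [bK_word]
    exact eq_one_of_fix h
  · simp only [if_true] at h
    exact bK_a h

/-- A map to a central extension with kernel of order two, and the sign it gives to relations. -/
structure Mod {E : Type*} [Group E] (σ : E →* U0) (δ : E) where
  /-- the map -/
  Φ : Star →* E
  /-- the cover -/
  c : ℕ
  hc : c < 3
  comm : ∀ x, σ (Φ x) = psi x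
  surj : Function.Surjective Φ
  central : ∀ x, δ * x = x * δ
  sq : δ * δ = 1
  stem : Cfsg.IsStemExtension σ
  ker : ∀ x, σ x = 1 ↔ x = 1 ∨ x = δ
  ne : δ ≠ 1
  rel : ∀ b w, relB' b w = true → Φ ((w.map bP).prod) = if fc c b then δ else 1

theorem exists_mod {E : Type*} [Group E] (σ : E →* U0) (δ : E) (hst : Cfsg.IsStemExtension σ)
    (hker : ∀ x, σ x = 1 ↔ x = 1 ∨ x = δ) (hne : δ ≠ 1) : Nonempty (Mod σ δ) := by
  classical
  obtain ⟨Φ, hΦs, hΦ⟩ := exists_cover_hom σ hst
  have hcen : ∀ x, δ * x = x * δ := fun x =>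
    (Subgroup.mem_center_iff.1 (hst.2.1 (MonoidHom.mem_ker.2 ((hker δ).2 (Or.inr rfl)))) x).symm
  have hsq : δ * δ = 1 := by
    rcases (hker (δ * δ)).1 (by rw [map_mul, (hker δ).2 (Or.inr rfl), one_mul]) with h | h
    · exact h
    · exact absurd (mul_eq_left.1 h) hne
  have hA := List.all_eq_true.1 liftA_one
  have hB := List.all_eq_true.1 liftB_one
  have stab : ∀ x < 8, FiHat3510.data.trace origin.val (liftA.getD x []).reverse = origin.val ∧
      FiHat3510.data.trace origin.val (liftB.getD x []).reverse = origin.val := fun x hx => by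
    have := List.all_eq_true.1 lift_stab x (List.mem_range.2 hx)
    rw [Bool.and_eq_true] at this
    exact ⟨Nat.eq_of_beq_eq_true this.1, Nat.eq_of_beq_eq_true this.2⟩
  obtain ⟨φA, hφA⟩ := exists_liftVal liftA lift_len.1 (fun w hw => hA w (List.mem_append_left _ hw)) 1 (a 0)
    (by rw [bK_word]; exact eq_one_of_fix (hA relB (by simp))) (bK_a liftA_a) (Or.inl rfl) (Or.inr rfl)
    (bK_mem lift_len.1 fun x hx => (stab x hx).1)
  obtain ⟨φB, hφB⟩ := exists_liftVal liftB lift_len.2 (fun w hw => hB w (List.mem_append_left _ hw)) (a 0) 1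
    (bK_a liftB_a) (by rw [bK_word]; exact eq_one_of_fix (hB relC (by simp))) (Or.inr rfl) (Or.inl rfl)
    (bK_mem lift_len.2 fun x hx => (stab x hx).2)
  have vAB : φA rB = 1 := by rw [rB, hφA, bK_word]; exact eq_one_of_fix (hA relB (by simp))
  have vAC : φA rC = a 0 := by rw [rC, hφA]; exact bK_a liftA_a
  have vBB : φB rB = a 0 := by rw [rB, hφB]; exact bK_a liftB_a
  have vBC : φB rC = 1 := by rw [rC, hφB, bK_word]; exact eq_one_of_fix (hB relC (by simp))
  have kB : psi rB = 1 := by rw [rB, psi_word]; exact bU_relB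
  have kC : psi rC = 1 := by rw [rC, psi_word]; exact bU_relC
  let θ : psi.ker →* Spor.Fi22 × Spor.Fi22 := (φA.prod φB).comp psi.ker.subtype
  let uB : psi.ker := ⟨rB, kB⟩
  let uC : psi.ker := ⟨rC, kC⟩
  have hdiv : Nat.card θ.ker ∣ 3 := by
    obtain ⟨k⟩ := kernel_structure.2
    have h12 : Nat.card psi.ker = 12 := by rw [Nat.card_congr k.toEquiv]; simp
    have hr : 4 ∣ Nat.card θ.range := by
      have h2 : orderOf (a 0) = 2 := orderOf_eq_prime (by rw [pow_two, Fi22U6.a_sq]) Fi22U6.a_ne_one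
      have hsub : (Subgroup.zpowers (a 0)).prod (Subgroup.zpowers (a 0)) ≤ θ.range := by
        rintro ⟨x, y⟩ ⟨⟨i, rfl⟩, ⟨j, rfl⟩⟩
        refine ⟨uC ^ i * uB ^ j, ?_⟩
        rw [map_mul, map_zpow, map_zpow]
        show ((φA rC, φB rC) : Spor.Fi22 × Spor.Fi22) ^ i * (φA rB, φB rB) ^ j = _
        rw [vAC, vBC, vAB, vBB]
        simp
      have := Subgroup.card_dvd_of_le hsub
      rwa [Nat.card_congr (Subgroup.prodEquiv _ _).toEquiv, Nat.card_prod, Nat.card_zpowers, h2] at this
    have hmul := θ.ker.index_mul_card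
    rw [Subgroup.index_ker, h12] at hmul
    have hd : 4 * Nat.card θ.ker ∣ 4 * 3 := by
      obtain ⟨t, ht⟩ := hr
      exact ⟨t, by rw [mul_right_comm, ← ht]; omega⟩
    exact Nat.dvd_of_mul_dvd_mul_left (by norm_num) hd
  have key : ∀ z : psi.ker, θ z = 1 → Φ z = 1 := by
    intro z hz
    have h3 : (⟨z, MonoidHom.mem_ker.2 hz⟩ : θ.ker) ^ 3 = 1 :=
      orderOf_dvd_iff_pow_eq_one.1 ((orderOf_dvd_natCard _).trans hdiv)
    have hz3 : (z : Star) ^ 3 = 1 := by simpa [Subtype.ext_iff] using h3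
    have e : Φ z ^ 3 = 1 := by rw [← map_pow, hz3, map_one]
    rcases (hker (Φ z)).1 (by rw [hΦ]; exact z.2) with h | h
    · exact h
    · rw [h, pow_succ, pow_two, hsq, one_mul] at e
      exact absurd e hne
  have val : ∀ (b : Bool × Bool) (w : List ℕ), relB' b w = true →
      Φ ((w.map bP).prod) = (if b.2 then Φ rB else 1) * (if b.1 then Φ rC else 1) := by
    intro b w h
    simp only [relB', signW, Bool.and_eq_true] at h
    obtain ⟨h1, h2, h3⟩ := h
    let z0 : psi.ker := ⟨(w.map bP).prod, by rw [MonoidHom.mem_ker, psi_word, oneW_prod h1]⟩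
    have e := key (z0 * ((if b.2 then uB else 1) * (if b.1 then uC else 1))⁻¹) (by
      rw [map_mul, map_inv, mul_inv_eq_one]
      show ((φA z0, φB z0) : Spor.Fi22 × Spor.Fi22) = _
      rw [show φA (z0 : Star) = _ from sign_value φA hφA h2, show φB (z0 : Star) = _ from sign_value φB hφB h3]
      rcases b with ⟨_ | _, _ | _⟩ <;> simp [θ, uB, uC, vAB, vAC, vBB, vBC])
    simp only [Subgroup.coe_mul, Subgroup.coe_inv, map_mul, map_inv, mul_inv_eq_one] at e
    rw [show Φ ((w.map bP).prod) = _ from e]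
    cases b.1 <;> cases b.2 <;> simp [uB, uC]
  have hB1 : Φ rB = 1 ∨ Φ rB = δ := (hker _).1 (by rw [hΦ, kB])
  have hC1 : Φ rC = 1 ∨ Φ rC = δ := (hker _).1 (by rw [hΦ, kC])
  have hnot : ¬ (Φ rB = 1 ∧ Φ rC = 1) := by
    rintro ⟨e1, e2⟩
    obtain ⟨z, hz⟩ := hΦs δ
    have hzk : z ∈ psi.ker := by rw [MonoidHom.mem_ker, ← hΦ, hz]; exact (hker δ).2 (Or.inr rfl)
    obtain ⟨φS, hSB, -⟩ := exists_homS
    have hbot : uB ^ 2 ∈ θ.ker := by
      rw [MonoidHom.mem_ker, map_pow]
      show ((φA rB, φB rB) : Spor.Fi22 × Spor.Fi22) ^ 2 = 1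
      rw [vAB, vBB]
      simp [pow_two, Fi22U6.a_sq]
    have h3 : Nat.card θ.ker = 3 := by
      refine ((Nat.dvd_prime Nat.prime_three).1 hdiv).resolve_left fun h1 => ?_
      rw [Subgroup.card_eq_one.1 h1, Subgroup.mem_bot] at hbot
      have e : φS rB ^ 2 = 1 := by
        rw [← map_pow, show rB ^ 2 = ((uB ^ 2 : psi.ker) : Star) from rfl, hbot]; simp
      rw [show φS rB = omS from hSB] at e
      exact omS_ne_one (by rw [← omS_cube, pow_succ, e, one_mul])
    let Q : Subgroup (Spor.Fi22 × Spor.Fi22) := (Subgroup.zpowers (a 0)).prod (Subgroup.zpowers (a 0))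
    have hQle : Q ≤ θ.range := by
      rintro ⟨x, y⟩ ⟨⟨i, rfl⟩, ⟨j, rfl⟩⟩
      refine ⟨uC ^ i * uB ^ j, ?_⟩
      rw [map_mul, map_zpow, map_zpow]
      show ((φA rC, φB rC) : Spor.Fi22 × Spor.Fi22) ^ i * (φA rB, φB rB) ^ j = _
      rw [vAC, vBC, vAB, vBB]
      simp
    have hQ : Nat.card Q = 4 := by
      have h2 : orderOf (a 0) = 2 := orderOf_eq_prime (by rw [pow_two, Fi22U6.a_sq]) Fi22U6.a_ne_one
      rw [Nat.card_congr (Subgroup.prodEquiv _ _).toEquiv, Nat.card_prod, Nat.card_zpowers, h2]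
    have hR : Nat.card θ.range = 4 := by
      obtain ⟨k⟩ := kernel_structure.2
      have h12 : Nat.card psi.ker = 12 := by rw [Nat.card_congr k.toEquiv]; simp
      have hmul := θ.ker.index_mul_card
      rw [Subgroup.index_ker, h12, h3] at hmul
      omega
    haveI : Finite θ.range := Nat.finite_of_card_ne_zero (by omega)
    have hQR : Q = θ.range := Subgroup.eq_of_le_of_card_ge hQle (by omega)
    obtain ⟨⟨i, hi⟩, ⟨j, hj⟩⟩ : θ ⟨z, hzk⟩ ∈ Q := hQR ▸ ⟨_, rfl⟩
    have e := key (⟨z, hzk⟩ * (uC ^ i * uB ^ j)⁻¹) (by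
      rw [map_mul, map_inv, mul_inv_eq_one, map_mul, map_zpow, map_zpow]
      show θ ⟨z, hzk⟩ = ((φA rC, φB rC) : Spor.Fi22 × Spor.Fi22) ^ i * (φA rB, φB rB) ^ j
      rw [vAC, vBC, vAB, vBB]
      exact Prod.ext (by simpa using hi.symm) (by simpa using hj.symm))
    simp only [Subgroup.coe_mul, Subgroup.coe_inv, Subgroup.coe_zpow, map_mul, map_inv, map_zpow, uB, uC, e1, e2,
      one_zpow, mul_one, inv_one, hz] at e
    exact hne e
  rcases hB1 with eB | eB <;> rcases hC1 with eC | eC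
  · exact absurd ⟨eB, eC⟩ hnot
  all_goals
    refine ⟨{ Φ := Φ, c := if Φ rB = 1 then 0 else if Φ rC = 1 then 1 else 2, hc := ?_, comm := hΦ, surj := hΦs,
              central := hcen, sq := hsq, stem := hst, ker := hker, ne := hne, rel := ?_ }⟩
    · split_ifs <;> norm_num
    · intro b w h
      rw [val b w h, eB, eC]
      rcases b with ⟨_ | _, _ | _⟩ <;> simp [hne, hsq, fc]

end CfsgLib.Recog.UsixMult.Plane
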