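import Cfsg.Agent.Lib.Recog.UsixMult.Plane.Data
import Mathlib

/-!
# Arithmetic of the ten dimensional modules

Vectors are numbers below 1024, the lowest bit being the central involution; a map is the list of the images of
the ten unit vectors (owner: helper6).
-/

set_option autoImplicit false
set_option maxRecDepth 20000
set_option Elab.async false

namespace CfsgLib.Recog.UsixMult.Plane

/-- The image of a vector. -/
def app : List ℕ → ℕ → ℕ
  | [], _ => 0
  | x :: M, v => Nat.xor (if Nat.beq (v % 2) 1 then x else 0) (app M (v / 2))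

/-- Composition of maps. -/
def cmp (A B : List ℕ) : List ℕ := B.map (app A)

/-- The identity. -/
def idM : List ℕ := (List.range 10).map (2 ^ ·)

/-- The sign in a cover. -/
def fc : ℕ → Bool × Bool → Bool
  | 0, b => b.1
  | 1, b => b.2
  | _, b => xor b.1 b.2

/-- A vector with its sign. -/
def colV (c : ℕ) (e : ℕ × Bool × Bool) : ℕ := 2 * e.1 + if fc c e.2 then 1 else 0

/-- The map of a generator. -/
def genM (c g : ℕ) : List ℕ := 1 :: (gV.getD g []).map (colV c)

/-- The map of a product of generators. -/
def wordM (c : ℕ) : List ℕ → List ℕ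
  | [] => idM
  | g :: L => cmp (genM c g) (wordM c L)

/-- The map of one of the sixty-four elements. -/
def uM (c k : ℕ) : List ℕ := wordM c (uL.getD k [])

/-- The vector of a point. -/
def ptV (c j : ℕ) : ℕ := colV c (pV.getD j (0, false, false))

/-- The orbit of a vector. -/
def lab (c v : ℕ) : ℕ := (labN.getD c 0 / 2 ^ (3 * v)) % 8

/-- Representatives of the orbits. -/
def reps : List ℕ := [1, 2, 3, 6, 7, 38]

/-- The steps in a cover. -/
def treeOf : ℕ → List ℕ
  | 0 => tree0
  | 1 => tree1
  | _ => tree2

/-- A step. -/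
def stepB (c m e : ℕ) : Bool :=
  m.testBit (e % 4096) && Nat.blt (e % 4096) 1024 && Nat.blt (e / 4096 % 16) 5 && Nat.blt (e / 65536) 1024 &&
    Nat.beq (app (genM c (e / 4096 % 16)) (e % 4096)) (e / 65536) && Nat.beq (lab c (e / 65536)) (lab c (e % 4096))

/-- The steps reach every vector. -/
def reachB (c : ℕ) : ℕ → List ℕ → Bool
  | m, [] => Nat.beq m (2 ^ 1024 - 2)
  | m, e :: L => stepB c m e && reachB c (Nat.lor m (2 ^ (e / 65536))) L

/-- The mask of the representatives. -/
def repMask : ℕ := reps.foldr (fun v m => Nat.lor m (2 ^ v)) 0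

/-- Membership in a union of orbits. -/
def inS (c k v : ℕ) : Bool :=
  Nat.beq (lab c v) 0 || (Nat.ble 1 (lab c v) && Nat.ble (lab c v) 5 && k.testBit (lab c v - 1))

/-- The pairs in a union of orbits with a given sum. -/
def cnt (c k v : ℕ) : ℕ := (List.range 1024).countP fun w => inS c k w && inS c k (Nat.xor v w)

/-- The size of a union of orbits. -/
def size (c k : ℕ) : ℕ := (List.range 1024).countP fun w => inS c k w

/-- Only the unions of size 1, 22 and 1023 have constant counts. -/
def countB (c k : ℕ) : Bool :=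
  Nat.beq (size c k) 1 || Nat.beq (size c k) 22 || Nat.beq (size c k) 1023 ||
    (inS c k (reps.getD ((witN.getD c []).getD k 0) 0) &&
      !Nat.beq (cnt c k (reps.getD ((witN.getD c []).getD k 0) 0)) (cnt c k 1))

/-- The fixed vectors of one of the sixty-four. -/
def fixMask (c k : ℕ) : ℕ :=
  (List.range 1024).foldr (fun v m => if Nat.beq (app (uM c k) v) v then Nat.lor m (2 ^ v) else m) 0

/-- The involutions. -/
def invKeys : List ℕ := invD.map Prod.fst

/-- The number of fixed vectors. -/
def fixCount (c k : ℕ) : ℕ := (List.range 1024).countP fun v => Nat.beq (app (uM c k) v) v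

/-- The fixed points of an involution modulo the centre lie in two classes. -/
def classB (c : ℕ) (e : ℕ × (ℕ × List ℕ × ℕ) × (ℕ × List ℕ × ℕ) × List ℕ) : Bool :=
  (List.range 512).all fun v => !Nat.beq (app (uM c e.1) (2 * v) / 2) v ||
    (e.2.2.2.map fun w => Nat.xor (app (uM c e.1) (2 * w) / 2) w).any fun x =>
      Nat.beq x v || Nat.beq x (Nat.xor v (Nat.xor e.2.1.1 e.2.2.1.1))

theorem len_ok : ∀ c < 3, (∀ g < 5, (genM c g).length = 10 ∧ (genM c g).all (Nat.blt · 1024) = true) ∧
    (∀ k < 64, (uM c k).length = 10) := by decide +kernel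

theorem reach_ok : ∀ c < 3, reachB c repMask (treeOf c) = true ∧
    ∀ i < 6, lab c (reps.getD i 0) = i := by decide +kernel

theorem count0a : ∀ k < 16, countB 0 k = true := by decide +kernel
theorem count0b : ∀ k < 16, countB 0 (16 + k) = true := by decide +kernel
theorem count1a : ∀ k < 16, countB 1 k = true := by decide +kernel
theorem count1b : ∀ k < 16, countB 1 (16 + k) = true := by decide +kernel
theorem count2a : ∀ k < 16, countB 2 k = true := by decide +kernel
theorem count2b : ∀ k < 16, countB 2 (16 + k) = true := by decide +kernel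

theorem count_ok : ∀ c < 3, ∀ k < 32, countB c k = true := by
  intro c hc k hk
  rcases Nat.lt_or_ge k 16 with h | h
  · interval_cases c
    exacts [count0a k h, count1a k h, count2a k h]
  · obtain ⟨j, rfl⟩ := Nat.exists_eq_add_of_le h
    interval_cases c
    exacts [count0b j (by omega), count1b j (by omega), count2b j (by omega)]

theorem next_ok : ∀ c < 3, uM c 0 = idM ∧ ∀ k < 64, ∀ g < 4,
    (uNext.getD k []).getD g 64 < 64 ∧ cmp (genM c g) (uM c k) = uM c ((uNext.getD k []).getD g 64) := by
  decide +kernel

theorem distinct_ok : ∀ c < 3, ((List.range 64).map (uM c)).Nodup := by decide +kernel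

theorem inv_ok : ∀ c < 3, ∀ k < 64, cmp (uM c k) (uM c k) = idM → k = 0 ∨ k ∈ invKeys := by decide +kernel

theorem inv_keys : invKeys.length = 27 ∧ invKeys.Nodup ∧ ∀ k ∈ invKeys, k < 64 := by decide +kernel

theorem fixc0 : ∀ k ∈ invKeys, fixCount 0 k = 64 := by decide +kernel
theorem fixc1 : ∀ k ∈ invKeys, fixCount 1 k = 64 := by decide +kernel
theorem fixc2 : ∀ k ∈ invKeys, fixCount 2 k = 64 := by decide +kernel
theorem fixm0 : (invKeys.map (fixMask 0)).Nodup := by decide +kernel
theorem fixm1 : (invKeys.map (fixMask 1)).Nodup := by decide +kernel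
theorem fixm2 : (invKeys.map (fixMask 2)).Nodup := by decide +kernel

theorem fix_ok : ∀ c < 3, (∀ k ∈ invKeys, fixCount c k = 64) ∧ (invKeys.map (fixMask c)).Nodup := by
  intro c hc
  interval_cases c
  exacts [⟨fixc0, fixm0⟩, ⟨fixc1, fixm1⟩, ⟨fixc2, fixm2⟩]

theorem class0 : invD.all (classB 0) = true := by decide +kernel
theorem class1 : invD.all (classB 1) = true := by decide +kernel
theorem class2 : invD.all (classB 2) = true := by decide +kernel

theorem class_ok : ∀ c < 3, invD.all (classB c) = true := by
  intro c hc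
  interval_cases c
  exacts [class0, class1, class2]

theorem ord_ok : ∀ c < 3, ∀ i < 3,
    (cmp (wordM c (ordW.getD i [])))^[[3, 5, 7].getD i 0] idM = idM ∧ wordM c (ordW.getD i []) ≠ idM ∧
      (ordW.getD i []).all (Nat.blt · 5) = true := by decide +kernel

theorem uL_ok : uL.length = 64 ∧ uL.all (fun l => l.all (Nat.blt · 4)) = true := by decide +kernel

/-- The points lie in the second or third orbit and exhaust them. -/
theorem pt_ok : ∀ c < 3, ∀ v < 1024, (lab c v = 1 ∨ lab c v = 2) →
    ∃ j < 21, ptV c j / 2 = v / 2 := by decide +kernel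

theorem basis_ok : ∀ i < 9, pV.getD (idxB.getD i 0) (0, false, false) = (2 ^ i, false, false) ∧
    idxB.getD i 0 < 21 := by decide +kernel

end CfsgLib.Recog.UsixMult.Plane
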