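import Cfsg.Agent.Lib.Recog.UsixMult.Plane.Tables
import Cfsg.Agent.Lib.Recog.UsixMult.Main

/-!
# Definitions for the word checks for the plane subgroup of PSU(6, 2)

Owner: helper6.
-/

set_option autoImplicit false
set_option maxRecDepth 20000
set_option Elab.async false

namespace CfsgLib.Recog.UsixMult.Plane

open CfsgLib.Recog.SporBound.Fi22U6 CfsgLib.Recog.UsixMult

/-- The word of a basis vector. -/
def bw (i : ℕ) : List ℕ := pW.getD (idxB.getD i 0) []

/-- The word of a vector modulo the centre. -/
def bword (m : ℕ) : List ℕ := (List.range 9).flatMap fun i => if m.testBit i then bw i else []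

/-- The word of a product of generators. -/
def gword (L : List ℕ) : List ℕ := L.flatMap fun g => gW.getD g []

/-- The letters are among the eight. -/
def lettB (w : List ℕ) : Bool := w.all (Nat.blt · 8)

/-- A word is trivial in the simple group. -/
noncomputable def oneW (w : List ℕ) : Bool :=
  lettB w && (scalOK F4.one w || scalOK F4.om w || scalOK F4.om' w)

/-- The two signs of a trivial word. -/
noncomputable def signW (b : Bool × Bool) (w : List ℕ) : Bool :=
  fixOK (flatW liftA w ++ if b.1 then [0] else []) && fixOK (flatW liftB w ++ if b.2 then [0] else [])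

/-- A relation with its signs. -/
noncomputable def relB' (b : Bool × Bool) (w : List ℕ) : Bool := oneW w && signW b w

/-- The vector of a point as a list. -/
def vL (j : ℕ) : List F4 :=
  let p := pP.getD j (0, 0, 0)
  [F4.ofNat4 p.1, F4.ofNat4 p.1, F4.ofNat4 p.2.1, F4.ofNat4 p.2.1, F4.ofNat4 p.2.2, F4.ofNat4 p.2.2]

/-- A word is a scalar multiple of the transvection at a point. -/
noncomputable def transB (j : ℕ) (w : List ℕ) : Bool :=
  lettB w && [F4.one, F4.om, F4.om'].any fun l =>
    (List.range 6).all fun i => limg (w.map nrow) (basisL i) == (ltr (vL j) (basisL i)).map (l * ·)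

/-- The displacement of a word with a scalar has rank at least two. -/
noncomputable def rankB (w : List ℕ) : Bool :=
  lettB w && [F4.one, F4.om, F4.om'].all fun l =>
    let D := (List.range 6).map fun i => laxpy l (limg (w.map nrow) (basisL i)) (basisL i)
    (List.range 6).any fun i => (List.range 6).any fun j => (List.range 6).any fun a => (List.range 6).any fun b =>
      !decide ((D.getD i []).getD a 0 * (D.getD j []).getD b 0 + (D.getD i []).getD b 0 * (D.getD j []).getD a 0 = 0)

end CfsgLib.Recog.UsixMult.Plane
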