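import Cfsg.Agent.Lib.Recog.UsixMult.Plane.WordDefs

/-!
# Relations of the generators for the plane subgroup of PSU(6, 2)

Owner: helper6.
-/

set_option autoImplicit false
set_option maxRecDepth 20000
set_option Elab.async false

namespace CfsgLib.Recog.UsixMult.Plane

open CfsgLib.Recog.SporBound.Fi22U6 CfsgLib.Recog.UsixMult

theorem gvl_ok : (List.range 5).all (fun g => lettB (gW.getD g [])) = true := by decide +kernel

/-- One relation of a generator. -/
noncomputable def gvB (g i : ℕ) : Bool :=
  let e := (gV.getD g []).getD i (0, false, false)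
  relB' e.2 (gW.getD g [] ++ bw i ++ (gW.getD g []).reverse ++ (bword e.1).reverse) && Nat.blt e.1 512

theorem gv0a : (List.range' 0 5).all (gvB 0) = true := by decide +kernel
theorem gv0b : (List.range' 5 4).all (gvB 0) = true := by decide +kernel
theorem gv1a : (List.range' 0 5).all (gvB 1) = true := by decide +kernel
theorem gv1b : (List.range' 5 4).all (gvB 1) = true := by decide +kernel
theorem gv2a : (List.range' 0 5).all (gvB 2) = true := by decide +kernel
theorem gv2b : (List.range' 5 4).all (gvB 2) = true := by decide +kernel
theorem gv3a : (List.range' 0 5).all (gvB 3) = true := by decide +kernel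
theorem gv3b : (List.range' 5 4).all (gvB 3) = true := by decide +kernel
theorem gv4a : (List.range' 0 5).all (gvB 4) = true := by decide +kernel
theorem gv4b : (List.range' 5 4).all (gvB 4) = true := by decide +kernel

theorem gv_ok : (List.range 5).all (fun g => lettB (gW.getD g []) && (List.range 9).all fun i =>
    let e := (gV.getD g []).getD i (0, false, false)
    relB' e.2 (gW.getD g [] ++ bw i ++ (gW.getD g []).reverse ++ (bword e.1).reverse) && Nat.blt e.1 512) = true := by
  refine List.all_eq_true.2 fun g hg => ?_
  rw [Bool.and_eq_true]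
  refine ⟨List.all_eq_true.1 gvl_ok g hg, List.all_eq_true.2 fun i hi => ?_⟩
  rw [List.mem_range] at hg hi
  show gvB g i = true
  rcases Nat.lt_or_ge i 5 with h | h
  · have hm : i ∈ List.range' 0 5 := List.mem_range'_1.2 ⟨Nat.zero_le _, by omega⟩
    interval_cases g
    exacts [List.all_eq_true.1 gv0a i hm, List.all_eq_true.1 gv1a i hm, List.all_eq_true.1 gv2a i hm,
      List.all_eq_true.1 gv3a i hm, List.all_eq_true.1 gv4a i hm]
  · have hm : i ∈ List.range' 5 4 := List.mem_range'_1.2 ⟨h, by omega⟩
    interval_cases g
    exacts [List.all_eq_true.1 gv0b i hm, List.all_eq_true.1 gv1b i hm, List.all_eq_true.1 gv2b i hm,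
      List.all_eq_true.1 gv3b i hm, List.all_eq_true.1 gv4b i hm]

end CfsgLib.Recog.UsixMult.Plane
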