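import Cfsg.Agent.Lib.Recog.UsixMult.Plane.WordDefs
import Cfsg.Agent.Lib.Recog.UsixMult.Plane.WordsGen

/-!
# Word checks for the plane subgroup of PSU(6, 2)

Owner: helper6.
-/

set_option autoImplicit false
set_option maxRecDepth 20000
set_option Elab.async false

namespace CfsgLib.Recog.UsixMult.Plane

open CfsgLib.Recog.SporBound.Fi22U6 CfsgLib.Recog.UsixMult

theorem pal_ok : (List.range 21).all (fun j => lettB (pW.getD j []) && ((pW.getD j []).reverse == pW.getD j []))
    = true := by decide +kernel

/-- The sign of a point. -/
noncomputable def pvB (j : ℕ) : Bool :=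
  let e := pV.getD j (0, false, false)
  relB' e.2 (pW.getD j [] ++ (bword e.1).reverse) && Nat.blt e.1 512

theorem pv_a : (List.range' 0 7).all pvB = true := by decide +kernel
theorem pv_b : (List.range' 7 7).all pvB = true := by decide +kernel
theorem pv_c : (List.range' 14 7).all pvB = true := by decide +kernel

theorem pv_ok : (List.range 21).all (fun j => let e := pV.getD j (0, false, false)
    relB' e.2 (pW.getD j [] ++ (bword e.1).reverse) && Nat.blt e.1 512) = true := by
  refine List.all_eq_true.2 fun j hj => ?_
  rw [List.mem_range] at hj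
  show pvB j = true
  rcases Nat.lt_or_ge j 7 with h | h
  · exact List.all_eq_true.1 pv_a j (List.mem_range'_1.2 ⟨Nat.zero_le _, by omega⟩)
  rcases Nat.lt_or_ge j 14 with h' | h'
  · exact List.all_eq_true.1 pv_b j (List.mem_range'_1.2 ⟨h, by omega⟩)
  · exact List.all_eq_true.1 pv_c j (List.mem_range'_1.2 ⟨h', by omega⟩)

/-- The basis vectors commute with the earlier ones. -/
noncomputable def commB (i : ℕ) : Bool :=
  (List.range i).all fun k => relB' (false, false) (bw i ++ bw k ++ bw i ++ bw k)

theorem comm_a : (List.range' 0 5).all commB = true := by decide +kernel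
theorem comm_b : (List.range' 5 2).all commB = true := by decide +kernel
theorem comm_c : (List.range' 7 1).all commB = true := by decide +kernel
theorem comm_d : (List.range' 8 1).all commB = true := by decide +kernel

theorem comm_ok : (List.range 9).all (fun i => (List.range i).all fun k =>
    relB' (false, false) (bw i ++ bw k ++ bw i ++ bw k)) = true := by
  refine List.all_eq_true.2 fun i hi => ?_
  rw [List.mem_range] at hi
  show commB i = true
  rcases Nat.lt_or_ge i 5 with h | h
  · exact List.all_eq_true.1 comm_a i (List.mem_range'_1.2 ⟨Nat.zero_le _, by omega⟩)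
  rcases Nat.lt_or_ge i 7 with h7 | h7
  · exact List.all_eq_true.1 comm_b i (List.mem_range'_1.2 ⟨h, by omega⟩)
  obtain rfl | rfl : i = 7 ∨ i = 8 := by omega
  · exact List.all_eq_true.1 comm_c 7 (List.mem_range'_1.2 ⟨le_rfl, by omega⟩)
  · exact List.all_eq_true.1 comm_d 8 (List.mem_range'_1.2 ⟨le_rfl, by omega⟩)

theorem rep_ok : [1, 3, 19].all (fun m => lettB (bword m) && !oneW (bword m)) = true := by decide +kernel

theorem rank_ok : [3, 19].all (fun m => rankB (bword m)) = true := by decide +kernel

theorem trans_ok : (List.range 21).all (fun j => transB j (pW.getD j []) && decide (ldot (vL j) (vL j) = 0))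
    = true := by decide +kernel

/-- The involutions over one of the sixty-four are conjugate into the plane subgroup. -/
noncomputable def invB (k : ℕ) (e : ℕ × List ℕ × ℕ) : Bool :=
  lettB e.2.1 && Nat.blt e.1 512 && Nat.blt e.2.2 512 &&
    oneW (e.2.1 ++ (gword (uL.getD k []) ++ bword e.1) ++ e.2.1.reverse ++ (bword e.2.2).reverse)

theorem invW_a : (invD.take 7).all (fun e => invB e.1 e.2.1 && invB e.1 e.2.2.1) = true := by decide +kernel
theorem invW_b : ((invD.drop 7).take 7).all (fun e => invB e.1 e.2.1 && invB e.1 e.2.2.1) = true := by decide +kernel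
theorem invW_c : ((invD.drop 14).take 7).all (fun e => invB e.1 e.2.1 && invB e.1 e.2.2.1) = true := by decide +kernel
theorem invW_d : (invD.drop 21).all (fun e => invB e.1 e.2.1 && invB e.1 e.2.2.1) = true := by decide +kernel

theorem invW_ok : invD.all (fun e => invB e.1 e.2.1 && invB e.1 e.2.2.1) = true := by
  rw [show invD = invD.take 7 ++ (invD.drop 7).take 7 ++ (invD.drop 14).take 7 ++ invD.drop 21 by rfl,
    List.all_append, List.all_append, List.all_append, invW_a, invW_b, invW_c, invW_d]
  rfl

/-- The points exhaust the non-zero triples up to scalars. -/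
theorem cover_pts : ∀ a b c : F4, ¬(a = 0 ∧ b = 0 ∧ c = 0) → ∃ j < 21, ∃ l : F4, l ≠ 0 ∧
    [a, a, b, b, c, c] = (vL j).map (l * ·) := by decide +kernel

end CfsgLib.Recog.UsixMult.Plane
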